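import Cfsg.Agent.H378.RegE7
import Cfsg.Agent.H378.TwRows
import Cfsg.Agent.H17.NS.SzCyc
import Cfsg.Agent.H168.ExcCoc
import Cfsg.Agent.H168.ExcE8_m3
import Cfsg.Prelude.Def_LieTypeChar
import Cfsg.Agent.H376.CocAlt_m3
import Cfsg.Agent.S2474
import Cfsg.Agent.S0292
import Cfsg.Agent.S0246
import Cfsg.Agent.Prune
set_option linter.all false

section
prune_inst 0x7f00000000000000000000000000000000000000000000000000000000000000000000000000000000000000000000000000000000000000000000000000000000000000000000000000000000000000003fffffffffffffffffffffffffffbeffbdffffffff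

-- part: H343/ExcFar
section
set_option linter.all false
open scoped Cfsg.Agent.FastGrp

/-!
# Exceptional groups of Lie type in odd characteristic: primes far from 2 (helper343)

`Far S s` : `s` is an odd prime divisor of `|S|`, there is no element of order `2 s`.

* `far_G2`, `far_F4`, `far_E6`, `far_3D4`, `far_2E6`, `far_2G2` : far primes are 1 modulo 3;
* `mod_E7`, `mod_E8` : if all primes dividing the order of `g` are far then they are all 1 modulo 3, or all 1 modulo 7,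
  or all 1 modulo 5;
* `exc_far` : an exceptional group with an element of order `2 ^ j + 1`, `j ≥ 1`, all prime divisors of which are far, is
  of Lie type in characteristic 2 or the Tits group (helper373's trick).
-/

set_option autoImplicit false
set_option linter.unusedSectionVars false

namespace Cfsg.Agent.H343.ExcFar

open Cfsg Cfsg.Lie Cfsg.Lie.ChevalleyDatum
open Cfsg.Agent.ChevalleyStructure Cfsg.Agent.ChevalleyStructure.Elts Cfsg.Agent.ChevalleyStructure.CoxeterGeom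
  Cfsg.Agent.ChevalleyStructure.CoxeterGeomTypes Cfsg.Agent.ChevalleyStructure.NPerm
open Cfsg.Agent.Nodes.Reps Cfsg.Agent.Nodes.BNOf Cfsg.Agent.Nodes.RGDChev
open Cfsg.Agent.BpExc.TorCent Cfsg.Agent.BpExc.TorChev Cfsg.Agent.BpExc.Tow Cfsg.Agent.BpExc.TowChev
  Cfsg.Agent.BpExc.FamExt Cfsg.Agent.BpExc.FamUntw Cfsg.Agent.BpExc.FamInst Cfsg.Agent.BpExc.LangFr
  Cfsg.Agent.BpExc.FamField Cfsg.Agent.BpExc.RowsUntw
open Cfsg.Agent.H493 Cfsg.Agent.H493.PGTorus Cfsg.Agent.H493.PGCyc Cfsg.Agent.H378.ExcAdj Cfsg.Agent.H378.ExcNear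
open Cfsg.Agent.H168.ExcAdj Cfsg.Agent.H168.ExcCoc

universe u

/-! ### far primes -/

/-- an odd prime divisor of the order, not adjacent to 2 -/
structure Far (S : Type*) [Group S] (s : ℕ) : Prop where
  prime : s.Prime
  ne_two : s ≠ 2
  dvd : s ∣ Nat.card S
  far : ¬ ∃ x : S, orderOf x = 2 * s

theorem Far.congr {S T : Type*} [Group S] [Group T] (e : S ≃* T) {s : ℕ} (h : Far S s) : Far T s :=
  ⟨h.prime, h.ne_two, by rw [← Nat.card_congr e.toEquiv]; exact h.dvd, fun ⟨x, hx⟩ => h.far ⟨e.symm x, by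
    rw [← hx]; exact orderOf_injective e.symm.toMonoidHom e.symm.injective x⟩⟩

theorem Far.not_adj {S : Type*} [Group S] {s : ℕ} (h : Far S s) : ¬ H94.PG.Adj S s 2 := by
  rintro ⟨-, -, -, x, y, hx, hy, hc⟩
  apply h.far
  refine ⟨x * y, ?_⟩
  rw [hc.orderOf_mul_eq_mul_orderOf_of_coprime, hx, hy, mul_comm]
  rw [hx, hy]
  exact (Nat.coprime_primes h.prime Nat.prime_two).2 h.ne_two

theorem Far.not_rel {S : Type*} [Group S] {s : ℕ} (h : Far S s) : ¬ PG.Rel S s 2 := by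
  rintro ⟨-, -, -, x, hx⟩
  exact h.far ⟨x, by rw [hx, mul_comm]⟩

theorem mod_of {s m d : ℕ} (hs : s.Prime) (h : m ∣ s - 1) (hd : d ∣ m) (hd1 : 1 < d) : s % d = 1 := by
  obtain ⟨k, hk⟩ := hd.trans h
  have h2 := hs.two_le
  have h3 : s = 1 + d * k := by omega
  rw [h3, Nat.add_mul_mod_self_left, Nat.mod_eq_of_lt hd1]

theorem od_mod {q s m d : ℕ} (hs : s.Prime) (h : od q s = m) (hm : 0 < m) (hd : d ∣ m) (hd1 : 1 < d) : s % d = 1 :=
  mod_of hs (mod_of_od hs h hm) hd hd1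

/-- if all primes dividing `a` are 1 modulo `m` then so is `a` -/
theorem mod_one_of_primes {m : ℕ} (hm : 1 < m) (a : ℕ) (ha : a ≠ 0) (h : ∀ s : ℕ, s.Prime → s ∣ a → s % m = 1) :
    a % m = 1 := by
  induction a using Nat.recOnMul with
  | zero => exact absurd rfl ha
  | one => exact Nat.mod_eq_of_lt hm
  | prime p hp => exact h p hp dvd_rfl
  | mul a b iha ihb =>
    have ha0 : a ≠ 0 := fun h0 => ha (by rw [h0, zero_mul])
    have hb0 : b ≠ 0 := fun h0 => ha (by rw [h0, mul_zero])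
    rw [Nat.mul_mod, iha ha0 fun s hs hd => h s hs (hd.mul_right b), ihb hb0 fun s hs hd => h s hs (hd.mul_left a),
      mul_one, Nat.mod_eq_of_lt hm]

section Untw

variable {F : Type u} [Field F] [Finite F]

theorem far_G2 {s : ℕ} (h : Far ↥(chevG2.group F) s) : s % 3 = 1 := by
  rcases adj_G2 F h.prime h.dvd with h1 | h1 | h1 | h1
  · exact absurd h1 h.ne_two
  · exact absurd h1 h.not_adj
  · exact od_mod h.prime h1 (by norm_num) (by norm_num) (by norm_num)
  · exact od_mod h.prime h1 (by norm_num) (by norm_num) (by norm_num)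

theorem two_dvd_c8 {q : ℕ} (h : Odd q) : ((2 : ℕ) : ℤ) ∣ pv c8 (q : ℤ) := by
  rw [pv_c8]
  obtain ⟨k, hk⟩ := h
  have h1 : (q : ℤ) = 2 * k + 1 := by rw [hk]; push_cast; ring
  rw [h1]
  refine ⟨8 * (k : ℤ) ^ 4 + 16 * k ^ 3 + 12 * k ^ 2 + 4 * k + 1, ?_⟩
  push_cast
  ring

theorem far_F4 (hq : Odd (Nat.card F)) {s : ℕ} (h : Far ↥(chevF4.group F) s) : s % 3 = 1 := by
  rcases adj_F4 F h.prime h.dvd with h1 | h1 | h1 | h1
  · exact absurd h1 h.ne_two
  · exact absurd h1 h.not_adj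
  · exfalso
    refine h.not_rel (Cfsg.Agent.H168.ExcF4.rel8 h.prime Nat.prime_two h.ne_two
      ⟨fun h2 => h.prime.one_lt.ne' (Nat.dvd_one.1 h2), Cfsg.Agent.H378.CycTab.dvd8 h.prime h1⟩
      ⟨by norm_num, two_dvd_c8 hq⟩)
  · exact od_mod h.prime h1 (by norm_num) (by norm_num) (by norm_num)

theorem far_E6 (hq : Odd (Nat.card F)) {s : ℕ} (h : Far ↥(chevE6.group F) s) : s % 3 = 1 := by
  rcases adj_E6 F h.prime h.dvd with h1 | h1 | h1 | h1 | h1
  · exact absurd h1 h.ne_two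
  · exact absurd h1 h.not_adj
  · exfalso
    refine h.not_rel (Cfsg.Agent.H168.ExcE6.rel8 h.prime Nat.prime_two h.ne_two
      ⟨fun h2 => ?_, Cfsg.Agent.H378.CycTab.dvd8 h.prime h1⟩ ⟨by norm_num, two_dvd_c8 hq⟩)
    have h3 : s = 3 := (Nat.prime_dvd_prime_iff_eq h.prime Nat.prime_three).1 h2
    have h4 := mod_of_od h.prime h1 (by norm_num)
    rw [h3] at h4
    exact absurd h4 (by norm_num)
  · exact od_mod h.prime h1 (by norm_num) (by norm_num) (by norm_num)
  · exact od_mod h.prime h1 (by norm_num) (by norm_num) (by norm_num)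

/-- powers of prime order -/
theorem exists_pow {G : Type*} [Group G] {g : G} {a : ℕ} (ha : 0 < a) (hg : orderOf g = a) {s : ℕ} (_hs : s.Prime)
    (hd : s ∣ a) : ∃ k : ℕ, orderOf (g ^ k) = s := by
  obtain ⟨k, hk⟩ := hd
  refine ⟨k, ?_⟩
  have hk0 : k ≠ 0 := by
    rintro rfl
    omega
  rw [orderOf_pow_of_dvd hk0 (by rw [hg, hk]; exact Dvd.intro_left _ rfl), hg, hk,
    Nat.mul_div_cancel _ (Nat.pos_of_ne_zero hk0)]

/-- **`E₈(q)`** -/
theorem mod_E8 {g : ↥(chevE8.group F)} {a : ℕ} (ha : 0 < a) (hg : orderOf g = a)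
    (hfar : ∀ s : ℕ, s.Prime → s ∣ a → Far ↥(chevE8.group F) s) :
    ∃ m : ℕ, (m = 3 ∨ m = 5 ∨ m = 7) ∧ ∀ s : ℕ, s.Prime → s ∣ a → s % m = 1 := by
  have hcl : ∀ s : ℕ, s.Prime → s ∣ a → od (Nat.card F) s = 15 ∨ od (Nat.card F) s = 20 ∨ od (Nat.card F) s = 24 ∨
      od (Nat.card F) s = 30 := fun s hs hd => by
    have h := hfar s hs hd
    rcases adj_E8 F hs h.dvd with h1 | h1 | h1
    · exact absurd h1 h.ne_two
    · exact absurd h1 h.not_adj
    · exact h1
  by_cases h20 : ∃ s : ℕ, s.Prime ∧ s ∣ a ∧ od (Nat.card F) s = 20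
  · obtain ⟨s, hs, hsd, ho⟩ := h20
    refine ⟨5, Or.inr (Or.inl rfl), fun t ht htd => ?_⟩
    obtain ⟨k, hk⟩ := exists_pow ha hg hs hsd
    obtain ⟨j, hj⟩ := exists_pow ha hg ht htd
    have hc : Commute (g ^ j) (g ^ k) := (Commute.refl g).pow_pow j k
    have h1 := Cfsg.Agent.H378.RegFin.od_of_comm hc
      (Cfsg.Agent.H378.RegFin.cent_od e8T inv_E8 one_ne_zero hs hk ho (by decide) (by norm_num)).2
    rw [hj] at h1
    rcases hcl t ht htd with h2 | h2 | h2 | h2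
    · rw [h2] at h1; exact absurd h1 (by norm_num)
    · exact od_mod ht h2 (by norm_num) (by norm_num) (by norm_num)
    · rw [h2] at h1; exact absurd h1 (by norm_num)
    · rw [h2] at h1; exact absurd h1 (by norm_num)
  · refine ⟨3, Or.inl rfl, fun t ht htd => ?_⟩
    rcases hcl t ht htd with h2 | h2 | h2 | h2
    · exact od_mod ht h2 (by norm_num) (by norm_num) (by norm_num)
    · exact absurd ⟨t, ht, htd, h2⟩ h20
    · exact od_mod ht h2 (by norm_num) (by norm_num) (by norm_num)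
    · exact od_mod ht h2 (by norm_num) (by norm_num) (by norm_num)

/-- **`E₇(q)`** -/
theorem mod_E7 {g : ↥(chevE7.group F)} {a : ℕ} (ha : 0 < a) (hg : orderOf g = a)
    (hfar : ∀ s : ℕ, s.Prime → s ∣ a → Far ↥(chevE7.group F) s) :
    ∃ m : ℕ, (m = 3 ∨ m = 5 ∨ m = 7) ∧ ∀ s : ℕ, s.Prime → s ∣ a → s % m = 1 := by
  have hcl : ∀ s : ℕ, s.Prime → s ∣ a → od (Nat.card F) s = 7 ∨ od (Nat.card F) s = 9 ∨ od (Nat.card F) s = 12 ∨
      od (Nat.card F) s = 14 ∨ od (Nat.card F) s = 18 := fun s hs hd => by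
    have h := hfar s hs hd
    rcases adj_E7 F hs h.dvd with h1 | h1 | h1
    · exact absurd h1 h.ne_two
    · exact absurd h1 h.not_adj
    · exact h1
  by_cases h7 : ∃ s : ℕ, s.Prime ∧ s ∣ a ∧ (od (Nat.card F) s = 7 ∨ od (Nat.card F) s = 14)
  · obtain ⟨s, hs, hsd, ho⟩ := h7
    refine ⟨7, Or.inr (Or.inr rfl), fun t ht htd => ?_⟩
    obtain ⟨k, hk⟩ := exists_pow ha hg hs hsd
    obtain ⟨j, hj⟩ := exists_pow ha hg ht htd
    have hc : Commute (g ^ j) (g ^ k) := (Commute.refl g).pow_pow j k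
    let cs : CoxeterSystem CoxeterMatrix.E₇ CoxeterMatrix.E₇.Group := CoxeterMatrix.E₇.toCoxeterSystem
    have := finite_W e7T cs
    obtain ⟨w, hE, φ, hφ⟩ := Cfsg.Agent.H378.RegE7.cent_E7 hs hk rfl (by omega) cs
    have hW : ∀ {s m : ℕ}, s.Prime → od (Nat.card F) s = m → 7 ≤ m → ¬ s ∣ Nat.card CoxeterMatrix.E₇.Group := by
      intro s m hs hm h7 h1
      have h3 := Cfsg.Agent.H378.LatCodim.le_of_dvd_card cs e7T.isCartan hs h1
      have h4 := mod_of_od hs hm (by omega)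
      have h5 := hs.two_le
      have h6 := Nat.le_of_dvd (by omega) h4
      have h8 : s = 8 := by omega
      rw [h8] at hs
      exact absurd hs (by norm_num)
    have hyc : g ^ j ∈ Subgroup.centralizer {g ^ k} := Subgroup.mem_centralizer_singleton_iff.2 hc
    have hot := hcl t ht htd
    have key := Cfsg.Agent.H378.RegE7.od_of_cent e7T cs hs (hW hs rfl (by omega)) rfl (by omega) hE hφ
      (y := ⟨g ^ j, hyc⟩) ht (by rw [Subgroup.orderOf_mk, hj]) (hW ht rfl (by omega)) rfl (by omega)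
    have t7 : Nat.totient 7 = 6 := by decide
    have t9 : Nat.totient 9 = 6 := by decide
    have t12 : Nat.totient 12 = 4 := by decide
    have t14 : Nat.totient 14 = 6 := by decide
    have t18 : Nat.totient 18 = 6 := by decide
    have hot' : od (Nat.card F) t = 7 ∨ od (Nat.card F) t = 14 := by
      rcases ho with h | h <;> rcases hot with h10 | h10 | h10 | h10 | h10 <;> rw [h, h10] at key <;> omega
    rcases hot' with h2 | h2
    · exact od_mod ht h2 (by norm_num) (by norm_num) (by norm_num)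
    · exact od_mod ht h2 (by norm_num) (by norm_num) (by norm_num)
  · refine ⟨3, Or.inl rfl, fun t ht htd => ?_⟩
    rcases hcl t ht htd with h2 | h2 | h2 | h2 | h2
    · exact absurd ⟨t, ht, htd, Or.inl h2⟩ h7
    · exact od_mod ht h2 (by norm_num) (by norm_num) (by norm_num)
    · exact od_mod ht h2 (by norm_num) (by norm_num) (by norm_num)
    · exact absurd ⟨t, ht, htd, Or.inr h2⟩ h7
    · exact od_mod ht h2 (by norm_num) (by norm_num) (by norm_num)

end Untw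

/-! ### twisted groups -/

section D

open Cfsg.Agent.H493.PGD4T Cfsg.Agent.H378.TwAdj Cfsg.Agent.H378.TwRows

variable {K : Type u} [Field K] [Fintype K] {q : ℕ} (hq : IsPrimePow q) (hK : Fintype.card K = q ^ 3)

include hq hK

theorem far_3D4 (h2q : ¬ 2 ∣ q) {s : ℕ} (h : Far ↥(twistedD4 K q) s) : s % 3 = 1 := by
  obtain ⟨p, n, hp, hn, hpn⟩ := id hq
  have hp := hp.nat_prime
  have hpq : p ∣ q := hpn ▸ dvd_pow_self p hn.ne'
  have hd := h.dvd
  rw [Cfsg.Agent.S1067.result hq hK] at hd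
  have h1 : ((2 : ℕ) : ℤ) ∣ pv c1 (q : ℤ) := two_dvd_c1 h2q
  have h2 : ((2 : ℕ) : ℤ) ∣ pv c2 (q : ℤ) := by
    rw [pv_c2]
    omega
  have key : Pr ↥(twistedD4 K q) s 2 → False := fun h3 => h.not_adj (h3.adj h.prime Nat.prime_two h.ne_two)
  rcases cover hq.two_le h.prime hd with (h3 | h3 | h3 | h3 | h3) | h3
  · exfalso
    rw [← hpn] at h3
    have h4 := (Nat.prime_dvd_prime_iff_eq h.prime hp).1 (h.prime.dvd_of_dvd_pow h3)
    have h5 : Pr ↥(twistedD4 K q) 2 p := pairD_p hq hK chainA_ok hThA eigA_1 (by decide) (by decide) fixA vanA_1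
      Nat.prime_two hp h1 hpq
    rw [← h4] at h5
    exact key h5.symm
  · exact (key (pairD_gen hq hK chainA_ok hThA eigA_1 (by decide) eigA_1 (by decide) h.prime Nat.prime_two h3 h1)).elim
  · exact (key (pairD_gen hq hK chainB_ok hThB eigB_2 (by decide) eigB_2 (by decide) h.prime Nat.prime_two h3 h2)).elim
  · exact (key (pairD_gen hq hK chainA_ok hThA eigA_3 (by decide) eigA_1 (by decide) h.prime Nat.prime_two h3 h1)).elim
  · exact (key (pairD_gen hq hK chainB_ok hThB eigB_6 (by decide) eigB_2 (by decide) h.prime Nat.prime_two h3 h2)).elim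
  · exact od_mod h.prime (od_of_c12 h.prime h3) (by norm_num) (by norm_num) (by norm_num)

end D

section E

open Cfsg.Agent.H493.PGE6T Cfsg.Agent.H378.TwAdj Cfsg.Agent.H378.TwRows

variable {K : Type u} [Field K] [Fintype K] {q : ℕ} (hq : IsPrimePow q) (hK : Fintype.card K = q ^ 2)

/-- coefficients of a functional, cyclotomic polynomial 1 -/
def VD_1 : Fin 1 → Fin 6 → ℤ := ![![0, 1, 0, 0, 0, 0]]

theorem eigD_1 : EigOK (fun i j => Cfsg.Agent.H493.PGE6T.ThD j i) c1 VD_1 ![0, 1, 0, 0, 0, 0] := by decide +kernel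

include hq hK

theorem far_2E6 (h2q : ¬ 2 ∣ q) {s : ℕ} (h : Far ↥(twistedE6 K q) s) : s % 3 = 1 := by
  obtain ⟨p, n, hp, hn, hpn⟩ := id hq
  have hp := hp.nat_prime
  have hpq : p ∣ q := hpn ▸ dvd_pow_self p hn.ne'
  have hc1 : ((2 : ℕ) : ℤ) ∣ pv c1 (q : ℤ) := two_dvd_c1 h2q
  have hc2 : ((2 : ℕ) : ℤ) ∣ pv c2 (q : ℤ) := by
    rw [pv_c2]
    omega
  have hc8 : ((2 : ℕ) : ℤ) ∣ pv c8 (q : ℤ) := two_dvd_c8 (by
    rw [← Nat.not_even_iff_odd, even_iff_two_dvd]
    exact h2q)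
  have hc4 : ((2 : ℕ) : ℤ) ∣ pv c4 (q : ℤ) := by
    rw [pv_c4]
    obtain ⟨k, hk⟩ : ∃ k : ℕ, q = 2 * k + 1 := ⟨q / 2, by omega⟩
    rw [hk]
    refine ⟨2 * (k : ℤ) ^ 2 + 2 * k + 1, ?_⟩
    push_cast
    ring
  have key : Pr ↥(twistedE6 K q) s 2 → False := fun h3 => h.not_adj (h3.adj h.prime Nat.prime_two h.ne_two)
  have h3 : s ≠ 3 := by
    rintro rfl
    exact h.not_adj (adj_three hq hK)
  have h3c := fun {t : ℕ} (ht : t.Prime) (h3 : t ≠ 3) => natCard_ne_of hq hK ht h3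
  have g3 := h3c h.prime h3
  have g2 := h3c Nat.prime_two (by norm_num)
  have h1 : s ∣ q ^ 36 * (q ^ 2 - 1) * (q ^ 5 + 1) * (q ^ 6 - 1) * (q ^ 8 - 1) * (q ^ 9 + 1) * (q ^ 12 - 1) := by
    rw [← Cfsg.Agent.S1066.result hq hK]
    exact h.dvd.mul_left _
  rcases cover hq.two_le h.prime h1 with (h4 | h4 | h4 | h4 | h4 | h4 | h4) | h4 | h4 | h4
  · exfalso
    rw [← hpn] at h4
    have h5 := (Nat.prime_dvd_prime_iff_eq h.prime hp).1 (h.prime.dvd_of_dvd_pow h4)
    have h6 : Pr ↥(twistedE6 K q) 2 p := pairE_p hq hK chainA_ok hThA eigA_1 (by decide) (by decide) fixA vanA_1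
      Nat.prime_two hp g2 hc1 hpq
    rw [← h5] at h6
    exact key h6.symm
  · exact (key (pairE_gen hq hK chainA_ok hThA eigA_1 (by decide) eigA_1 (by decide) h.prime Nat.prime_two g3 g2
      h4 hc1)).elim
  · exact (key (pairE_gen hq hK chainA_ok hThA eigA_2 (by decide) eigA_2 (by decide) h.prime Nat.prime_two g3 g2
      h4 hc2)).elim
  · exact (key (pairE_gen hq hK chainB_ok hThB eigB_3 (by decide) eigB_1 (by decide) h.prime Nat.prime_two g3 g2
      h4 hc1)).elim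
  · exact (key (pairE_gen hq hK chainC_ok hThC eigC_4 (by decide) eigC_4 (by decide) h.prime Nat.prime_two g3 g2
      h4 hc4)).elim
  · exact (key (pairE_gen hq hK chainB_ok hThB eigB_6 (by decide) eigB_1 (by decide) h.prime Nat.prime_two g3 g2
      h4 hc1)).elim
  · exact (key (pairE_gen hq hK chainD_ok hThD eigD_10 (by decide) eigD_1 (by decide) h.prime Nat.prime_two g3 g2
      h4 hc1)).elim
  · exact (key (pairE_gen hq hK chainE_ok hThE eigE_8 (by decide) eigE_8 (by decide) h.prime Nat.prime_two g3 g2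
      h4 hc8)).elim
  · have h5 : (s : ℤ) ∣ pv c12 (q : ℤ) := h4
    exact od_mod h.prime (od_of_c12 h.prime h5) (by norm_num) (by norm_num) (by norm_num)
  · exact od_mod h.prime (od_of_c18 h.prime h3 h4) (by norm_num) (by norm_num) (by norm_num)

end E

/-- **the small Ree groups** -/
theorem far_2G2 {K : Type*} [Field K] [Fintype K] {m : ℕ} (hm : 1 ≤ m) (hK : Fintype.card K = 3 ^ (2 * m + 1))
    {s : ℕ} (h : Far ↥(twistedG2 K (3 ^ m)) s) : s % 3 = 1 := by
  have hfin : Finite ↥(twistedG2 K (3 ^ m)) := inferInstance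
  have h1 := fun d => Cfsg.Agent.S1159.result hm hK d
  have hadj : ∀ g : ↥(twistedG2 K (3 ^ m)), 2 ∣ orderOf g → s ∣ orderOf g → False := by
    intro g h3 h4
    exact h.not_adj (H94.PG.adj_of_dvd h.prime Nat.prime_two h.ne_two (Commute.refl g) h4 h3 (orderOf_pos _).ne'
      (orderOf_pos _).ne')
  have := Fact.mk h.prime
  obtain ⟨x, hx⟩ := exists_prime_orderOf_dvd_card' s h.dvd
  have hq : s ∣ (3 ^ (2 * m + 1)) ^ 2 - 3 ^ (2 * m + 1) + 1 := by
    have hfac : (3 ^ (2 * m + 1) - 3 ^ (m + 1) + 1) * (3 ^ (2 * m + 1) + 3 ^ (m + 1) + 1) =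
        (3 ^ (2 * m + 1)) ^ 2 - 3 ^ (2 * m + 1) + 1 := by
      have h3 : 3 ^ (m + 1) ≤ 3 ^ (2 * m + 1) := Nat.pow_le_pow_right (by norm_num) (by omega)
      have h4 : 3 ^ (2 * m + 1) ≤ (3 ^ (2 * m + 1)) ^ 2 := Nat.le_self_pow (by norm_num) _
      have h5 : (3 ^ (m + 1)) ^ 2 = 3 * 3 ^ (2 * m + 1) := by ring
      zify [h3, h4]
      have h6 : ((3 : ℤ) ^ (m + 1)) ^ 2 = 3 * 3 ^ (2 * m + 1) := by exact_mod_cast h5
      linear_combination -h6
    rw [← hfac]
    rcases (h1 s).1 ⟨x, hx⟩ with h | h | h | h | h | h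
    · exfalso
      obtain ⟨g, hg⟩ := (h1 6).2 (Or.inl dvd_rfl)
      exact hadj g (by rw [hg]; norm_num) (by rw [hg]; exact h)
    · exfalso
      have h' : s ∣ 3 ^ 2 := h
      have h3 := (Nat.prime_dvd_prime_iff_eq Fact.out Nat.prime_three).1 (Nat.Prime.dvd_of_dvd_pow Fact.out h')
      obtain ⟨g, hg⟩ := (h1 6).2 (Or.inl dvd_rfl)
      exact hadj g (by rw [hg]; norm_num) (by rw [hg, h3]; norm_num)
    · exfalso
      obtain ⟨g, hg⟩ := (h1 _).2 (Or.inr (Or.inr (Or.inl dvd_rfl)))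
      refine hadj g ?_ (by rw [hg]; exact h)
      rw [hg]
      have : 3 - 1 ∣ 3 ^ (2 * m + 1) - 1 ^ (2 * m + 1) := Nat.sub_dvd_pow_sub_pow 3 1 (2 * m + 1)
      simpa using this
    · exfalso
      obtain ⟨g, hg⟩ := (h1 _).2 (Or.inr (Or.inr (Or.inr (Or.inl dvd_rfl))))
      refine hadj g ?_ (by rw [hg]; exact h)
      rw [hg]
      have h5 : 3 ^ (2 * m + 1) % 4 = 3 := by
        rw [pow_succ, pow_mul, Nat.mul_mod, Nat.pow_mod]
        norm_num
      omega
    · exact h.mul_right _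
    · exact h.mul_left _
  -- `s ∣ Q² - Q + 1`, `s ≠ 2, 3` : `Q` has order 6 modulo `s`
  set Q := 3 ^ (2 * m + 1) with hQ
  have hQ1 : Q ≤ Q ^ 2 := Nat.le_self_pow (by norm_num) _
  have h3s : s ≠ 3 := by
    rintro rfl
    have h3Q : 3 ∣ Q := by rw [hQ]; exact dvd_pow_self 3 (by omega)
    have h4 : 3 ∣ Q ^ 2 - Q := Nat.dvd_sub (h3Q.mul_left Q |>.trans (by rw [sq])) h3Q
    have h5 := (Nat.dvd_add_right h4).1 hq
    exact absurd h5 (by norm_num)
  have hz : ((Q : ℕ) : ZMod s) ^ 2 - Q + 1 = 0 := by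
    have h4 : (((Q ^ 2 - Q + 1 : ℕ)) : ZMod s) = 0 := (ZMod.natCast_eq_zero_iff _ _).2 hq
    rw [Nat.cast_add, Nat.cast_sub hQ1] at h4
    push_cast at h4 ⊢
    exact h4
  set x' : ZMod s := ((Q : ℕ) : ZMod s) ^ 2 with hx'
  have hcube : x' ^ 3 = 1 := by
    have h4 : x' ^ 3 - 1 = (((Q : ℕ) : ZMod s) ^ 2 - Q + 1) * (((Q : ℕ) : ZMod s) ^ 4 + (Q : ZMod s) ^ 3 - Q - 1) := by
      rw [hx']; ring
    rw [hz, zero_mul] at h4
    exact sub_eq_zero.1 h4
  have hne : x' ≠ 1 := by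
    intro h4
    have h5 : (Q : ZMod s) = 2 := by
      have : x' - (Q : ZMod s) + 1 = 0 := hz
      rw [h4] at this
      linear_combination -this
    have h6 : (3 : ZMod s) = 0 := by
      have : x' = 1 := h4
      rw [hx', h5] at this
      linear_combination this
    have h7 : ((3 : ℕ) : ZMod s) = 0 := by exact_mod_cast h6
    rw [ZMod.natCast_eq_zero_iff] at h7
    exact h3s ((Nat.prime_dvd_prime_iff_eq h.prime Nat.prime_three).1 h7)
  have h03 : orderOf x' = 3 := orderOf_eq_prime hcube hne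
  have hx0 : x' ≠ 0 := by
    intro h4
    rw [h4, zero_pow (by norm_num)] at hcube
    exact zero_ne_one hcube
  have h6 : 3 ∣ s - 1 := by
    rw [← h03]
    exact orderOf_dvd_of_pow_eq_one (ZMod.pow_card_sub_one_eq_one hx0)
  exact mod_of h.prime h6 dvd_rfl (by norm_num)

/-! ### the main theorem -/

theorem charTwo {F : Type*} [Field F] [Fintype F] (h : ¬ Odd (Nat.card F)) : CharP F 2 := by
  obtain ⟨p, hp⟩ := CharP.exists F
  obtain ⟨n, h1, h2⟩ := FiniteField.card F p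
  rw [Nat.card_eq_fintype_card, h2, Nat.not_odd_iff_even] at h
  have h3 := h1.even_iff.1 ((Nat.even_pow.1 h).1)
  rwa [h3] at hp

/-- all primes of `2 ^ j + 1` cannot be 1 modulo an odd number -/
theorem no_mod {j m : ℕ} (hm : m = 3 ∨ m = 5 ∨ m = 7) (h : ∀ s : ℕ, s.Prime → s ∣ 2 ^ j + 1 → s % m = 1) : False := by
  have h1 : 1 < m := by omega
  have h2 := mod_one_of_primes h1 (2 ^ j + 1) (Nat.succ_ne_zero _) h
  have h3 : m ∣ 2 ^ j := by
    have h4 := Nat.div_add_mod (2 ^ j + 1) m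
    rw [h2] at h4
    exact ⟨(2 ^ j + 1) / m, (Nat.add_right_cancel h4).symm⟩
  obtain ⟨i, -, hi⟩ := (Nat.dvd_prime_pow Nat.prime_two).1 h3
  rcases i with _ | i
  · rw [pow_zero] at hi
    omega
  · rw [pow_succ] at hi
    omega

/-- **Exceptional groups in odd characteristic have no far element of order `2 ^ j + 1`.** -/
theorem exc_far {S : Type*} [Group S] [Finite S] (hS : IsExc S) {j : ℕ} {g : S} (hg : orderOf g = 2 ^ j + 1)
    (hfar : ∀ s : ℕ, s.Prime → s ∣ 2 ^ j + 1 → ¬ ∃ x : S, orderOf x = 2 * s) (hj : 1 ≤ j) :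
    IsLieTypeChar 2 S ∨ IsoTits S := by
  have hF : ∀ s : ℕ, s.Prime → s ∣ 2 ^ j + 1 → Far S s := fun s hs hd => by
    refine ⟨hs, ?_, (hd.trans (by rw [← hg])).trans (orderOf_dvd_natCard g), hfar s hs hd⟩
    rintro rfl
    have h1 : 2 ∣ 2 ^ j := dvd_pow_self 2 (by omega)
    have h2 := (Nat.dvd_add_right h1).1 hd
    exact absurd h2 (by norm_num)
  have hpos : 0 < 2 ^ j + 1 := Nat.succ_pos _
  have hexc : ∀ {F : Type} [Field F] [Fintype F], ¬ Odd (Nat.card F) →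
      ((3 ≤ Fintype.card F ∧ Nonempty (S ≃* Lie.chevG2.group F)) ∨ Nonempty (S ≃* Lie.chevF4.group F) ∨
      Nonempty (S ≃* Lie.chevE6.group F) ∨ Nonempty (S ≃* Lie.chevE7.group F) ∨ Nonempty (S ≃* Lie.chevE8.group F)) →
      IsLieTypeChar 2 S := by
    intro F _ _ h1 h2
    have := charTwo h1
    exact Or.inr (Or.inr (Or.inr (Or.inr (Or.inr (Or.inr (Or.inl ⟨F, inferInstance, inferInstance, this, h2⟩))))))
  rcases hS with h | h | h | h | h | h | h | h | h | h | h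
  · left
    obtain ⟨F, _, _, h3, ⟨e⟩⟩ := h
    by_cases hO : Odd (Nat.card F)
    · exact (no_mod (Or.inl rfl) fun s hs hd => far_G2 ((hF s hs hd).congr e)).elim
    · exact hexc hO (Or.inl ⟨h3, ⟨e⟩⟩)
  · left
    obtain ⟨F, _, _, ⟨e⟩⟩ := h
    by_cases hO : Odd (Nat.card F)
    · exact (no_mod (Or.inl rfl) fun s hs hd => far_F4 hO ((hF s hs hd).congr e)).elim
    · exact hexc hO (Or.inr (Or.inl ⟨e⟩))
  · left
    obtain ⟨F, _, _, ⟨e⟩⟩ := h
    by_cases hO : Odd (Nat.card F)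
    · exact (no_mod (Or.inl rfl) fun s hs hd => far_E6 hO ((hF s hs hd).congr e)).elim
    · exact hexc hO (Or.inr (Or.inr (Or.inl ⟨e⟩)))
  · left
    obtain ⟨F, _, _, ⟨e⟩⟩ := h
    by_cases hO : Odd (Nat.card F)
    · obtain ⟨m, hm, hmod⟩ := mod_E7 (g := e g) hpos ((MulEquiv.orderOf_eq e g).trans hg)
        fun s hs hd => (hF s hs hd).congr e
      exact (no_mod hm hmod).elim
    · exact hexc hO (Or.inr (Or.inr (Or.inr (Or.inl ⟨e⟩))))
  · left
    obtain ⟨F, _, _, ⟨e⟩⟩ := h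
    by_cases hO : Odd (Nat.card F)
    · obtain ⟨m, hm, hmod⟩ := mod_E8 (g := e g) hpos ((MulEquiv.orderOf_eq e g).trans hg)
        fun s hs hd => (hF s hs hd).congr e
      exact (no_mod hm hmod).elim
    · exact hexc hO (Or.inr (Or.inr (Or.inr (Or.inr ⟨e⟩))))
  · left
    obtain ⟨K, _, _, q, hq, hK, ⟨e⟩⟩ := h
    by_cases h2 : 2 ∣ q
    · have : CharP K 2 := charTwo (by
        rw [Nat.card_eq_fintype_card, hK, Nat.not_odd_iff_even, even_iff_two_dvd]
        exact dvd_pow h2 two_ne_zero)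
      exact Or.inr (Or.inr (Or.inr (Or.inr (Or.inr (Or.inr (Or.inr (Or.inl ⟨K, inferInstance, inferInstance, this, q, hq,
        Or.inl ⟨hK, ⟨e⟩⟩⟩)))))))
    · exact (no_mod (Or.inl rfl) fun s hs hd => far_2E6 hq hK h2 ((hF s hs hd).congr e)).elim
  · left
    obtain ⟨K, _, _, q, hq, hK, ⟨e⟩⟩ := h
    by_cases h2 : 2 ∣ q
    · have : CharP K 2 := charTwo (by
        rw [Nat.card_eq_fintype_card, hK, Nat.not_odd_iff_even, even_iff_two_dvd]
        exact dvd_pow h2 three_ne_zero)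
      exact Or.inr (Or.inr (Or.inr (Or.inr (Or.inr (Or.inr (Or.inr (Or.inl ⟨K, inferInstance, inferInstance, this, q, hq,
        Or.inr ⟨hK, ⟨e⟩⟩⟩)))))))
    · exact (no_mod (Or.inl rfl) fun s hs hd => far_3D4 hq hK h2 ((hF s hs hd).congr e)).elim
  · exact Or.inl (Or.inr (Or.inr (Or.inr (Or.inr (Or.inr (Or.inr (Or.inr (Or.inr (Or.inl ⟨rfl, h⟩)))))))))
  · exfalso
    obtain ⟨K, _, _, m, hm, hK, ⟨e⟩⟩ := h
    exact no_mod (Or.inl rfl) fun s hs hd => far_2G2 hm hK ((hF s hs hd).congr e)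
  · exact Or.inl (Or.inr (Or.inr (Or.inr (Or.inr (Or.inr (Or.inr (Or.inr (Or.inr (Or.inr (Or.inl ⟨rfl, h⟩))))))))))
  · exact Or.inr h

end Cfsg.Agent.H343.ExcFar
end

-- part: H356/TwoSep
section
set_option linter.all false
open scoped Cfsg.Agent.FastGrp

/-!
# Two non-adjacent odd primes, both non-adjacent to 2 (helper356)

`TwoSep S r s` : `r`, `s` are distinct odd primes dividing `|S|`, and `S` has no elements of orders `2r`, `2s`, `rs`.

* `psp` : impossible for `PSp_{2l}(q)`, `q` odd, `l ≥ 2`;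
* `oodd` : impossible for `Ω_{2l+1}(q)`, `q` odd, `l ≥ 3`.
-/

set_option autoImplicit false

namespace Cfsg.Agent.H356

open Cfsg.Agent.H376.Coc Cfsg.Agent.H376.SpEmb

/-- two non-adjacent odd primes, both non-adjacent to 2 -/
structure TwoSep (S : Type*) [Group S] (r s : ℕ) : Prop where
  pr : r.Prime
  ps : s.Prime
  r2 : r ≠ 2
  s2 : s ≠ 2
  ne : r ≠ s
  dr : r ∣ Nat.card S
  ds : s ∣ Nat.card S
  far_r : ¬ ∃ x : S, orderOf x = 2 * r
  far_s : ¬ ∃ x : S, orderOf x = 2 * s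
  sep : ¬ ∃ x : S, orderOf x = r * s

namespace TwoSep

theorem symm {S : Type*} [Group S] {r s : ℕ} (h : TwoSep S r s) : TwoSep S s r where
  pr := h.ps
  ps := h.pr
  r2 := h.s2
  s2 := h.r2
  ne := h.ne.symm
  dr := h.ds
  ds := h.dr
  far_r := h.far_s
  far_s := h.far_r
  sep := by
    rw [mul_comm]
    exact h.sep

theorem of_mulEquiv {S T : Type*} [Group S] [Group T] (e : S ≃* T) {r s : ℕ} (h : TwoSep S r s) : TwoSep T r s where
  pr := h.pr
  ps := h.ps
  r2 := h.r2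
  s2 := h.s2
  ne := h.ne
  dr := by rw [← Nat.card_congr e.toEquiv]; exact h.dr
  ds := by rw [← Nat.card_congr e.toEquiv]; exact h.ds
  far_r := fun ⟨x, hx⟩ => h.far_r ⟨e.symm x, by rw [MulEquiv.orderOf_eq, hx]⟩
  far_s := fun ⟨x, hx⟩ => h.far_s ⟨e.symm x, by rw [MulEquiv.orderOf_eq, hx]⟩
  sep := fun ⟨x, hx⟩ => h.sep ⟨e.symm x, by rw [MulEquiv.orderOf_eq, hx]⟩

/-- an element whose order is divisible by `2r` -/
theorem not_dvd {S : Type*} [Group S] [Finite S] {r s : ℕ} (h : TwoSep S r s) (x : S) : ¬ 2 * r ∣ orderOf x := fun hd =>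
  h.far_r (exists_of_dvd (orderOf_pos x).ne' hd ⟨x, rfl⟩)

end TwoSep

section

variable {F : Type*} [Field F] [Fintype F]

/-- an element of order `4r` of `Sp` gives an element of order `2r` of `PSp` -/
theorem psp_of_four {n r : ℕ} (hr : r ≠ 0) (h : ∃ A : Matrix.symplecticGroup (Fin n) F, orderOf A = 4 * r) :
    ∃ g : Cfsg.PSp n F, orderOf g = 2 * r := by
  obtain ⟨A, hA⟩ := h
  have h1 : 2 * r ∣ orderOf (QuotientGroup.mk A : Cfsg.PSp n F) := by
    have h2 : (QuotientGroup.mk A : Cfsg.PSp n F) ^ orderOf (QuotientGroup.mk A : Cfsg.PSp n F) = 1 :=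
      pow_orderOf_eq_one _
    rw [← QuotientGroup.mk_pow, QuotientGroup.eq_one_iff] at h2
    have h3 := center_pow _ h2
    rw [← pow_mul] at h3
    have h4 := orderOf_dvd_of_pow_eq_one h3
    rw [hA, show 4 * r = (2 * r) * 2 by ring] at h4
    exact Nat.dvd_of_mul_dvd_mul_right (by norm_num) h4
  have : Finite (Cfsg.PSp n F) := inferInstance
  exact exists_of_dvd (orderOf_pos _).ne' h1 ⟨_, rfl⟩

/-- a prime not adjacent to two in `PSp_{2l}(q)`, `q` odd -/
theorem psp_far {l r : ℕ} (hl : 2 ≤ l) (hodd : Odd (Fintype.card F)) (hr : r.Prime) (hr2 : r ≠ 2)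
    (hd : r ∣ Nat.card (Cfsg.PSp l F)) (hfar : ¬ ∃ x : Cfsg.PSp l F, orderOf x = 2 * r) :
    (orderOf ((Fintype.card F : ℕ) : ZMod r) = 2 * l ∧ Fintype.card F ^ l % 4 = 1) ∨
      (orderOf ((Fintype.card F : ℕ) : ZMod r) = l ∧ Odd l ∧ Fintype.card F ^ l % 4 = 3) := by
  have hq1 : 1 ≤ Fintype.card F := Fintype.card_pos
  have hro : Odd r := hr.odd_of_ne_two hr2
  have h2d : 2 ∣ Nat.card (Matrix.symplecticGroup (Fin 1) F) := by
    refine sp_dvd le_rfl (Or.inr ⟨1, le_rfl, le_rfl, ?_⟩)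
    obtain ⟨t, ht⟩ := hodd.pow (n := 2 * 1)
    rw [ht, Nat.add_sub_cancel]
    exact Dvd.intro _ rfl
  have h1 : ¬ r ∣ Nat.card (Matrix.symplecticGroup (Fin (l - 1)) F) := by
    intro h
    apply hfar
    obtain ⟨g, hg⟩ := psp_adj (n := l) (show (l - 1) + 1 ≤ l by omega) hr Nat.prime_two hr2 h h2d
    exact ⟨g, by rw [hg, mul_comm]⟩
  have h2 := psp_label hr (show 1 ≤ l - 1 by omega) hd h1
  have hqo : Odd (Fintype.card F ^ l) := hodd.pow
  have h4 : Fintype.card F ^ l % 4 = 1 ∨ Fintype.card F ^ l % 4 = 3 := by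
    obtain ⟨t, ht⟩ := hqo
    omega
  have hq3 : 3 ≤ Fintype.card F ^ l := by
    obtain ⟨t, ht⟩ := hqo
    have := Nat.one_lt_pow (show l ≠ 0 by omega) (Fintype.one_lt_card (α := F))
    omega
  have c4 : Nat.Coprime 4 r := by
    have : Nat.Coprime 2 r := Nat.coprime_two_left.2 hro
    exact Nat.Coprime.mul_left this this
  rw [mem_labels] at h2
  rcases h2 with ⟨j, hj1, hj2, hj⟩ | ⟨h3, h5, h6⟩
  · have hjl : j = l := by omega
    subst hjl
    left
    refine ⟨hj, ?_⟩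
    rcases h4 with h4 | h4
    · exact h4
    exfalso
    apply hfar
    apply psp_of_four hr.ne_zero
    refine exists_of_dvd (N := Nat.card F ^ j + 1) (by omega) ?_ (exists_plus F j (by omega))
    rw [Nat.card_eq_fintype_card]
    refine Nat.Coprime.mul_dvd_of_dvd_of_dvd c4 (by omega) ?_
    have h6 : r ∣ Fintype.card F ^ (2 * j) - 1 := (ord_dvd_iff hq1).1 (by rw [hj])
    have h7 : Fintype.card F ^ (2 * j) - 1 = (Fintype.card F ^ j + 1) * (Fintype.card F ^ j - 1) := by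
      have := Nat.sq_sub_sq (Fintype.card F ^ j) 1
      rw [mul_comm 2 j, pow_mul]
      simpa using this
    rw [h7] at h6
    refine ((Nat.Prime.dvd_mul hr).1 h6).resolve_right ?_
    intro h8
    have h9 := (ord_dvd_iff hq1).2 h8
    rw [hj] at h9
    have := Nat.le_of_dvd (by omega) h9
    omega
  · have hel : orderOf ((Fintype.card F : ℕ) : ZMod r) = l := by omega
    right
    refine ⟨hel, hel ▸ h6, ?_⟩
    rcases h4 with h4 | h4
    · exfalso
      apply hfar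
      apply psp_of_four hr.ne_zero
      refine exists_of_dvd (N := Nat.card F ^ l - 1) ?_ ?_ (exists_minus F l (by omega))
      · rw [Nat.card_eq_fintype_card]
        omega
      · rw [Nat.card_eq_fintype_card]
        refine Nat.Coprime.mul_dvd_of_dvd_of_dvd c4 (by omega) ?_
        exact (ord_dvd_iff hq1).1 (by rw [hel])
    · exact h4

/-- **`PSp_{2l}(q)`, `q` odd** -/
theorem TwoSep.psp {l r s : ℕ} (hl : 2 ≤ l) (hodd : Odd (Fintype.card F)) (h : TwoSep (Cfsg.PSp l F) r s) : False := by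
  have hr := psp_far hl hodd h.pr h.r2 h.dr h.far_r
  have hs := psp_far hl hodd h.ps h.s2 h.ds h.far_s
  have key : ∀ k, k ∈ labels (l - 1) l → orderOf ((Fintype.card F : ℕ) : ZMod r) = k →
      orderOf ((Fintype.card F : ℕ) : ZMod s) = k → False := fun k hk h1 h2 =>
    h.sep (psp_adj_same h.pr h.ps h.ne (show 1 ≤ l - 1 by omega) hk h1 h2)
  rcases hr with ⟨h1, h2⟩ | ⟨h1, h2, h3⟩ <;> rcases hs with ⟨h4, h5⟩ | ⟨h4, h5, h6⟩
  · exact key _ (mem_labels.2 (Or.inl ⟨l, by omega, le_rfl, rfl⟩)) h1 h4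
  · omega
  · omega
  · exact key _ (mem_labels.2 (Or.inr ⟨by omega, le_rfl, h2⟩)) h1 h4

/-- **`Ω_{2l+1}(q)`, `q` odd** -/
theorem TwoSep.oodd {l r s : ℕ} (hl : 3 ≤ l) (hodd : Odd (Fintype.card F))
    (h : TwoSep (Cfsg.POmega F (Cfsg.quadFormOdd l F)) r s) : False := by
  have hcard : Nat.card (Cfsg.POmega F (Cfsg.quadFormOdd l F)) = Nat.card (Cfsg.PSp l F) := by
    have h1 := Cfsg.Agent.S0292.result (F := F) rfl hodd l hl
    have h2 := Cfsg.Agent.LieClassical.SympCount.card_symplecticGroup (F := F) l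
    have h3 := Cfsg.Agent.S0246.result (F := F) rfl l (by omega)
    have h4 := (Subgroup.center (Matrix.symplecticGroup (Fin l) F)).card_eq_card_quotient_mul_card_subgroup
    have h5 : Nat.gcd 2 (Fintype.card F - 1) = 2 := by
      obtain ⟨t, ht⟩ := hodd
      rw [ht, Nat.add_sub_cancel]
      exact Nat.gcd_eq_left (Dvd.intro _ rfl)
    rw [h3, h5, h2] at h4
    have h6 : Nat.card (Cfsg.PSp l F) = Nat.card (Matrix.symplecticGroup (Fin l) F ⧸
      Subgroup.center (Matrix.symplecticGroup (Fin l) F)) := rfl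
    rw [h6]
    rw [h4] at h1
    omega
  refine TwoSep.psp (F := F) (show 2 ≤ l by omega) hodd (r := r) (s := s) ?_
  have key : ∀ {a b : ℕ}, a.Prime → b.Prime → a ≠ b → (¬ ∃ x : Cfsg.POmega F (Cfsg.quadFormOdd l F), orderOf x = a * b) →
      ¬ ∃ x : Cfsg.PSp l F, orderOf x = a * b := fun ha hb hab h1 h2 =>
    h1 ((Cfsg.Agent.S2474.result hodd l hl _ _ ha hb hab).2 h2)
  exact
    { pr := h.pr, ps := h.ps, r2 := h.r2, s2 := h.s2, ne := h.ne, dr := hcard ▸ h.dr, ds := hcard ▸ h.ds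
      far_r := key Nat.prime_two h.pr h.r2.symm h.far_r
      far_s := key Nat.prime_two h.ps h.s2.symm h.far_s
      sep := key h.pr h.ps h.ne h.sep }

end

end Cfsg.Agent.H356
end
end
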