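import Cfsg.Agent.H341.ThreeList_m3
import Cfsg.Agent.H343.WitCl_m3
import Cfsg.Agent.H343.WitTri
import Cfsg.Agent.S0298
import Cfsg.Agent.S0299
import Cfsg.Agent.S0300
import Cfsg.Agent.S0301
import Cfsg.Agent.S0302
import Cfsg.Agent.S0303
import Cfsg.Agent.Prune
set_option linter.all false

section
prune_inst 0x7f00000000000000000000000000000000000000000000000000000000000000000000000000000000000000000000000000000000000000000000000000000000000000000000000000000000000000003fffffffffffffffffffffffffffbeffbdffffffff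

-- part: H343/ElimOrth
section
set_option linter.all false
open scoped Cfsg.Agent.FastGrp

-- part: H343/ElimLin
section
/-!
# Elimination with `|L|_3 = 3^6`: linear, unitary and symplectic groups (helper343)
-/

set_option autoImplicit false
set_option linter.unusedVariables false

namespace Cfsg.Agent.H343

open Cfsg Cfsg.Agent.OrdDiv Matrix

/-- the hypotheses of the elimination -/
structure C6 (L : Type*) [Group L] : Prop where
  d6 : 3 ^ 6 ∣ Nat.card L
  n7 : ¬ 3 ^ 7 ∣ Nat.card L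
  cen : ∀ y : L, orderOf y = 3 → Nat.card (Subgroup.centralizer ({y} : Set L)) ∣ N1

theorem C6.equiv {L M : Type*} [Group L] [Group M] (h : C6 L) (e : L ≃* M) : C6 M where
  d6 := by rw [← Nat.card_congr e.toEquiv]; exact h.d6
  n7 := by rw [← Nat.card_congr e.toEquiv]; exact h.n7
  cen y hy := by
    have := h.cen (e.symm y) (by rw [MulEquiv.orderOf_eq, hy])
    rwa [card_centralizer_equiv] at this

theorem C6.has {L : Type*} [Group L] (h : C6 L) {d : ℕ} (hd : Has d L) : d ∣ N1 := by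
  obtain ⟨y, hy, hd⟩ := hd
  exact hd.trans (h.cen y hy)

theorem C6.has2 {L : Type*} [Group L] (h : C6 L) {d : ℕ} (hd : Has2 d L) : d ∣ 2 * N1 := by
  obtain ⟨y, hy, hd⟩ := hd
  exact hd.trans (Nat.mul_dvd_mul_left 2 (h.cen y hy))

theorem C6.kill {L : Type*} [Group L] (h : C6 L) {den num : ℕ} (hd : 0 < den) (hc : den * Nat.card L = num)
    (hb : bad den num = true) : False :=
  H343.kill hd hc h.d6 h.n7 hb

section

variable {F : Type*} [Field F] [Fintype F]

theorem card_sl_dvd {m n : ℕ} (hmn : m ≤ n) :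
    Nat.card (_root_.Matrix.SpecialLinearGroup (Fin m) F) ∣ Nat.card (_root_.Matrix.SpecialLinearGroup (Fin n) F) :=
  Subgroup.card_dvd_of_injective (slExt (Fin.castLE hmn) (Fin.castLE_injective hmn)) (slExt_injective _ _)

theorem card_su_dvd {q m n : ℕ} (hF : Fintype.card F = q ^ 2) (hmn : m ≤ n) :
    Nat.card (SU m F q) ∣ Nat.card (SU n F q) :=
  Subgroup.card_dvd_of_injective (Phan.ext hF (Fin.castLE hmn) (Fin.castLE_injective hmn)) (Phan.ext_injective hF _)

theorem card_sp_dvd {m n : ℕ} (hmn : m ≤ n) :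
    Nat.card (symplecticGroup (Fin m) F) ∣ Nat.card (symplecticGroup (Fin n) F) :=
  Subgroup.card_dvd_of_injective (Blk.spExt (Fin.castLE hmn) (Fin.castLE_injective hmn)) (Blk.spExt_injective _ _)

end

/-- `(q - 1) c = num`, `c ∣ N` needs `num % …` -/
theorem dvd_of_eq {a c num N : ℕ} (h : a * c = num) (hc : c ∣ N) : num ∣ a * N := h ▸ Nat.mul_dvd_mul_left a hc

theorem sl_le {F : Type*} [Field F] [Fintype F] {q k : ℕ} (hF : Fintype.card F = q) (hk : 2 ≤ k)
    (h : Nat.card (_root_.Matrix.SpecialLinearGroup (Fin k) F) ∣ N1) :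
    (k, q) ∈ [(2, 2), (2, 3), (2, 4), (2, 5), (2, 7), (2, 8), (2, 9), (2, 11), (3, 2), (3, 4), (4, 2)] := by
  have hq : IsPrimePow q := hF ▸ Fintype.isPrimePow_card_of_field
  have h2 := (card_sl_dvd (F := F) hk).trans h
  rw [card_SL_two hF] at h2
  have hl := qlist hq (h2.mul_left 2)
  have h3 : ∀ j, 1 ≤ j → j ≤ k → glN j q ∣ (q - 1) * N1 := fun j hj hjk =>
    dvd_of_eq (ord_sl hF hj) ((card_sl_dvd (F := F) hjk).trans h)
  have key : ∀ q ∈ [2, 3, 4, 5, 7, 8, 9, 11], ∀ k < 5, 2 ≤ k → (∀ j < k + 1, 1 ≤ j → glN j q ∣ (q - 1) * N1) →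
      (k, q) ∈ [(2, 2), (2, 3), (2, 4), (2, 5), (2, 7), (2, 8), (2, 9), (2, 11), (3, 2), (3, 4), (4, 2)] := by
    decide +kernel
  have key5 : ∀ q ∈ [2, 3, 4, 5, 7, 8, 9, 11], ¬ glN 5 q ∣ (q - 1) * N1 := by decide +kernel
  rcases Nat.lt_or_ge k 5 with hk5 | hk5
  · exact key q hl k hk5 hk fun j hj hj1 => h3 j hj1 (by omega)
  · exact absurd (h3 5 (by norm_num) hk5) (key5 q hl)

theorem elim_psl {F : Type*} [Field F] [Fintype F] {n q : ℕ} (hF : Fintype.card F = q) (hn : 4 ≤ n)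
    (h : C6 (ProjectiveSpecialLinearGroup (Fin n) F)) : n = 4 ∧ q = 3 := by
  have h1 := sl_le hF (by omega) (h.has (has_psl F (by omega)))
  have h2 := ord_psl (n := n) hF (by omega)
  obtain ⟨k, rfl⟩ : ∃ k, n = k + 2 := ⟨n - 2, by omega⟩
  rw [Nat.add_sub_cancel] at h1
  have key : ∀ x ∈ [(2, 2), (2, 3), (2, 4), (2, 5), (2, 7), (2, 8), (2, 9), (2, 11), (3, 2), (3, 4), (4, 2)],
      (x.1 + 2 = 4 ∧ x.2 = 3) ∨ (0 < fPSL.den (x.1 + 2) x.2 ∧ bad (fPSL.den (x.1 + 2) x.2) (fPSL.num (x.1 + 2) x.2) = true) := by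
    decide +kernel
  rcases key _ h1 with h3 | ⟨h3, h4⟩
  · exact h3
  · exact (h.kill h3 h2 h4).elim

theorem su_two_card {F : Type*} [Field F] [Fintype F] {q : ℕ} (hF : Fintype.card F = q ^ 2) :
    Nat.card (SU 2 F q) = q * (q ^ 2 - 1) := by
  have h := Cfsg.Agent.S0278.result hF 2 (by norm_num)
  simp only [Finset.prod_range_succ, _root_.Nat.add_one_sub_one, _root_.mul_one, _root_.Order.lt_two_iff, _root_.zero_le, _root_.Nat.div_self, _root_.pow_one, _root_.Finset.range_one, _root_.Finset.prod_singleton, _root_.Even.zero, ↓ _root_.reduceIte, _root_.zero_add, _root_.Nat.not_even_one, _root_.Nat.reduceAdd] at h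
  apply Nat.eq_of_mul_eq_mul_left (show 0 < q + 1 by omega)
  rw [h]; ring

theorem isPrimePow_of_sq {F : Type*} [Field F] [Fintype F] {q : ℕ} (hF : Fintype.card F = q ^ 2) : IsPrimePow q := by
  have hq2 : IsPrimePow (q ^ 2) := hF ▸ Fintype.isPrimePow_card_of_field
  exact (isPrimePow_pow_iff (by norm_num)).1 hq2

theorem su_le {F : Type*} [Field F] [Fintype F] {q k : ℕ} (hF : Fintype.card F = q ^ 2) (hk : 2 ≤ k)
    (h : Nat.card (SU k F q) ∣ N1) :
    (k, q) ∈ [(2, 2), (2, 3), (2, 4), (2, 5), (2, 7), (2, 8), (2, 9), (2, 11), (3, 2), (3, 3), (4, 2), (4, 3), (5, 2)] := by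
  have hq : IsPrimePow q := isPrimePow_of_sq hF
  have h2 := (card_su_dvd hF hk).trans h
  rw [su_two_card hF] at h2
  have hl := qlist hq (h2.mul_left 2)
  have h3 : ∀ j, 1 ≤ j → j ≤ k → q ^ (j * (j - 1) / 2) * prU q j ∣ (q + 1) * N1 := fun j hj hjk =>
    dvd_of_eq (ord_su hF hj) ((card_su_dvd hF hjk).trans h)
  have key : ∀ q ∈ [2, 3, 4, 5, 7, 8, 9, 11], ∀ k < 6, 2 ≤ k → (∀ j < k + 1, 1 ≤ j → q ^ (j * (j - 1) / 2) * prU q j ∣ (q + 1) * N1) →
      (k, q) ∈ [(2, 2), (2, 3), (2, 4), (2, 5), (2, 7), (2, 8), (2, 9), (2, 11), (3, 2), (3, 3), (4, 2), (4, 3), (5, 2)] := by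
    decide +kernel
  have key5 : ∀ q ∈ [2, 3, 4, 5, 7, 8, 9, 11], ¬ q ^ (6 * (6 - 1) / 2) * prU q 6 ∣ (q + 1) * N1 := by decide +kernel
  rcases Nat.lt_or_ge k 6 with hk5 | hk5
  · exact key q hl k hk5 hk fun j hj hj1 => h3 j hj1 (by omega)
  · exact absurd (h3 6 (by norm_num) hk5) (key5 q hl)

theorem elim_psu {F : Type*} [Field F] [Fintype F] {n q : ℕ} (hF : Fintype.card F = q ^ 2) (hn : 4 ≤ n)
    (h : C6 (PSU n F q)) : (n = 4 ∧ q = 3) ∨ (n = 6 ∧ q = 2) := by
  have h1 := su_le hF (by omega) (h.has (has_psu hF (by omega)))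
  have h2 := ord_psu (n := n) hF (by omega)
  obtain ⟨k, rfl⟩ : ∃ k, n = k + 2 := ⟨n - 2, by omega⟩
  rw [Nat.add_sub_cancel] at h1
  have key : ∀ x ∈ [(2, 2), (2, 3), (2, 4), (2, 5), (2, 7), (2, 8), (2, 9), (2, 11), (3, 2), (3, 3), (4, 2), (4, 3), (5, 2)],
      ((x.1 + 2 = 4 ∧ x.2 = 3) ∨ (x.1 + 2 = 6 ∧ x.2 = 2)) ∨
        (0 < fPSU.den (x.1 + 2) x.2 ∧ bad (fPSU.den (x.1 + 2) x.2) (fPSU.num (x.1 + 2) x.2) = true) := by
    decide +kernel
  rcases key _ h1 with h3 | ⟨h3, h4⟩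
  · exact h3
  · exact (h.kill h3 h2 h4).elim

theorem sp_le {F : Type*} [Field F] [Fintype F] {q k : ℕ} (hF : Fintype.card F = q) (hk : 1 ≤ k)
    (h : Nat.card (symplecticGroup (Fin k) F) ∣ N1) :
    (k, q) ∈ [(1, 2), (1, 3), (1, 4), (1, 5), (1, 7), (1, 8), (1, 9), (1, 11), (2, 2), (2, 3), (3, 2)] := by
  have hq : IsPrimePow q := hF ▸ Fintype.isPrimePow_card_of_field
  have h2 := (card_sp_dvd (F := F) hk).trans h
  rw [ord_sp hF] at h2
  have h2' : q * (q ^ 2 - 1) ∣ N1 := by simpa only [prB, _root_.one_pow, _root_.pow_one, _root_.List.range_one, _root_.List.map_cons, _root_.zero_add, _root_.mul_one, _root_.List.map_nil, _root_.List.prod_cons, _root_.List.prod_nil] using h2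
  have hl := qlist hq (h2'.mul_left 2)
  have h3 : ∀ j, j ≤ k → q ^ (j ^ 2) * prB q j ∣ N1 := fun j hjk => by
    rw [← ord_sp (m := j) hF]; exact (card_sp_dvd (F := F) hjk).trans h
  have key : ∀ q ∈ [2, 3, 4, 5, 7, 8, 9, 11], ∀ k < 4, 1 ≤ k → (∀ j < k + 1, q ^ (j ^ 2) * prB q j ∣ N1) →
      (k, q) ∈ [(1, 2), (1, 3), (1, 4), (1, 5), (1, 7), (1, 8), (1, 9), (1, 11), (2, 2), (2, 3), (3, 2)] := by
    decide +kernel
  have key5 : ∀ q ∈ [2, 3, 4, 5, 7, 8, 9, 11], ¬ q ^ (4 ^ 2) * prB q 4 ∣ N1 := by decide +kernel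
  rcases Nat.lt_or_ge k 4 with hk5 | hk5
  · exact key q hl k hk5 hk fun j hj => h3 j (by omega)
  · exact absurd (h3 4 hk5) (key5 q hl)

theorem elim_psp {F : Type*} [Field F] [Fintype F] {n q : ℕ} (hF : Fintype.card F = q) (hn : 2 ≤ n)
    (h : C6 (PSp n F)) : False := by
  have h1 := sp_le hF (by omega) (h.has (has_psp hn))
  have h2 := ord_psp (m := n) hF (by omega)
  obtain ⟨k, rfl⟩ : ∃ k, n = k + 1 := ⟨n - 1, by omega⟩
  rw [Nat.add_sub_cancel] at h1
  have key : ∀ x ∈ [(1, 2), (1, 3), (1, 4), (1, 5), (1, 7), (1, 8), (1, 9), (1, 11), (2, 2), (2, 3), (3, 2)],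
        (0 < fPSp.den (x.1 + 1) x.2 ∧ bad (fPSp.den (x.1 + 1) x.2) (fPSp.num (x.1 + 1) x.2) = true) := by
    decide +kernel
  exact h.kill (key _ h1).1 h2 (key _ h1).2

end Cfsg.Agent.H343
end

-- part: H343/ElimOrth
section
/-!
# Elimination with `|L|_3 = 3^6`: orthogonal groups (helper343)
-/

set_option autoImplicit false
set_option linter.unusedVariables false
set_option linter.unusedSectionVars false

namespace Cfsg.Agent.H343

open Cfsg Cfsg.Agent.OrdDiv Matrix

variable {F : Type*} [Field F] [Fintype F]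

theorem card_oodd_dvd {k l : ℕ} :
    Nat.card (Omega F (quadFormOdd l F)) ∣ Nat.card (Omega F (quadFormOdd (k + l) F)) :=
  Subgroup.card_dvd_of_injective _ (Blk.sumOdd F k l).swap.omega_injective

theorem card_oplus_dvd {k l : ℕ} :
    Nat.card (Omega F (quadFormPlus l F)) ∣ Nat.card (Omega F (quadFormPlus (k + l) F)) :=
  Subgroup.card_dvd_of_injective _ (Blk.sumPlus F k l).swap.omega_injective

theorem card_ominus_dvd {a b : F} {k l : ℕ} :
    Nat.card (Omega F (quadFormMinus l F a b)) ∣ Nat.card (Omega F (quadFormMinus (k + l) F a b)) :=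
  Subgroup.card_dvd_of_injective _ (Blk.sumMinus F a b k l).swap.omega_injective

theorem psl_dvd_of_le {q n N : ℕ} (hF : Fintype.card F = q) (hn : 2 ≤ n)
    (h : Nat.card (ProjectiveSpecialLinearGroup (Fin n) F) ∣ N) : fPSL.num n q ∣ fPSL.den n q * N :=
  dvd_of_eq (ord_psl hF hn) h

theorem odd_two_ne {q : ℕ} (hF : Fintype.card F = q) (ho : Odd q) : (2 : F) ≠ 0 := by
  intro h
  have h' : (ringChar F) = 2 := by
    have hd : ringChar F ∣ 2 := (ringChar.spec F 2).1 (by exact_mod_cast h)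
    rcases (Nat.dvd_prime Nat.prime_two).1 hd with h1 | h1
    · exact absurd h1 (CharP.ringChar_ne_one)
    · exact h1
  have heven := FiniteField.even_card_of_char_two h'
  rw [hF] at heven
  have := Nat.odd_iff.1 ho
  omega

/-- from `PSL_2(q)` -/
theorem q_of_psl_two {q : ℕ} (hF : Fintype.card F = q)
    (h : Nat.card (ProjectiveSpecialLinearGroup (Fin 2) F) ∣ N1) : q ∈ [2, 3, 4, 5, 7, 8, 9, 11] := by
  have hq : IsPrimePow q := hF ▸ Fintype.isPrimePow_card_of_field
  apply qlist hq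
  have h1 := ord_psl (n := 2) hF le_rfl
  have h2 := ord_sl (n := 2) hF (by norm_num)
  have h3 : Nat.card (_root_.Matrix.SpecialLinearGroup (Fin 2) F) ∣ 2 * Nat.card (ProjectiveSpecialLinearGroup (Fin 2) F) := by
    have hq1 : 1 < q := hF ▸ Fintype.one_lt_card
    have h4 : (q - 1) * Nat.card (_root_.Matrix.SpecialLinearGroup (Fin 2) F) =
        (q - 1) * (Nat.gcd 2 (q - 1) * Nat.card (ProjectiveSpecialLinearGroup (Fin 2) F)) := by
      rw [h2]
      have : fPSL.num 2 q = glN 2 q := rfl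
      rw [← this, ← h1]
      change Nat.gcd 2 (q - 1) * (q - 1) * _ = _
      ring
    rw [Nat.eq_of_mul_eq_mul_left (by omega) h4]
    exact Nat.mul_dvd_mul_right (Nat.gcd_dvd_left _ _) _
  rw [← card_SL_two hF]
  exact h3.trans (Nat.mul_dvd_mul_left 2 h)

theorem elim_oodd {q m : ℕ} (hF : Fintype.card F = q) (ho : Odd q) (hm : 3 ≤ m)
    (h : C6 (POmega F (quadFormOdd m F))) : False := by
  obtain ⟨l, rfl⟩ : ∃ l, m = 2 + (l + 1) := ⟨m - 3, by omega⟩
  have h1 := h.has (has_oodd (odd_two_ne hF ho) (l := l + 1))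
  have hq : q ∈ [2, 3, 4, 5, 7, 8, 9, 11] := by
    apply q_of_psl_two hF
    obtain ⟨e⟩ := Cfsg.Agent.S0298.result (F := F) (by rw [hF]; exact ho)
    rw [← Nat.card_congr e.toEquiv]
    exact (card_pomega_dvd _).trans ((card_oodd_dvd (k := l) (l := 1)).trans h1)
  have h5 : 1 ≤ l → q = 3 := by
    intro hl
    obtain ⟨e⟩ := Cfsg.Agent.S0301.result (F := F) (by rw [hF]; exact ho)
    have h2 : Nat.card (PSp 2 F) ∣ N1 := by
      rw [← Nat.card_congr e.toEquiv]
      obtain ⟨j, rfl⟩ : ∃ j, l = j + 1 := ⟨l - 1, by omega⟩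
      exact (card_pomega_dvd _).trans ((card_oodd_dvd (k := j) (l := 2)).trans h1)
    have h3 := dvd_of_eq (ord_psp (m := 2) hF (by norm_num)) h2
    have key : ∀ q ∈ [2, 3, 4, 5, 7, 8, 9, 11], q % 2 = 1 → fPSp.num 2 q ∣ fPSp.den 2 q * N1 → q = 3 := by decide +kernel
    exact key q hq (Nat.odd_iff.mp ho) h3
  have h7 : l < 2 := by
    by_contra hl
    have h6 := h5 (by omega)
    subst h6
    obtain ⟨j, rfl⟩ : ∃ j, l = j + 2 := ⟨l - 2, by omega⟩
    have h2 : Nat.card (POmega F (quadFormOdd 3 F)) ∣ N1 :=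
      (card_pomega_dvd _).trans ((card_oodd_dvd (k := j) (l := 3)).trans h1)
    have h3 := dvd_of_eq (ord_oodd (m := 3) hF ho le_rfl) h2
    revert h3
    decide +kernel
  have h8 := ord_oodd (m := 2 + (l + 1)) hF ho (by omega)
  have key : ∀ l < 2, ∀ q ∈ [2, 3, 4, 5, 7, 8, 9, 11], (1 ≤ l → q = 3) → q % 2 = 1 →
      (0 < fOOdd.den (2 + (l + 1)) q ∧ bad (fOOdd.den (2 + (l + 1)) q) (fOOdd.num (2 + (l + 1)) q) = true) := by
    decide +kernel
  obtain ⟨h9, h10⟩ := key l h7 q hq h5 (Nat.odd_iff.mp ho)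
  exact h.kill h9 h8 h10

theorem elim_oplus {q m : ℕ} (hF : Fintype.card F = q) (hm : 4 ≤ m)
    (h : C6 (POmega F (quadFormPlus m F))) : False := by
  obtain ⟨l, rfl⟩ : ∃ l, m = 2 + (l + 2) := ⟨m - 4, by omega⟩
  have h1 := h.has (has_oplus (F := F) (l := l + 2) (by omega))
  have hq : q ∈ [2, 3, 4, 5, 7, 8, 9, 11] := by
    have hq1 : 1 < q := hF ▸ Fintype.one_lt_card
    rcases Nat.lt_or_ge q 3 with h3 | h3
    · have : q = 2 := by omega
      subst this; decide
    · apply q_of_psl_two hF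
      obtain ⟨e⟩ := Cfsg.Agent.S0299.result (F := F) (by rw [hF]; exact h3)
      have h4 : Nat.card (ProjectiveSpecialLinearGroup (Fin 2) F) ∣ Nat.card (POmega F (quadFormPlus 2 F)) := by
        rw [Nat.card_congr e.toEquiv, Nat.card_prod]
        exact dvd_mul_right _ _
      exact h4.trans ((card_pomega_dvd _).trans ((card_oplus_dvd (k := l) (l := 2)).trans h1))
  have h5 : 1 ≤ l → q = 2 := by
    intro hl
    obtain ⟨e⟩ := Cfsg.Agent.S0302.result (F := F)
    have h2 : Nat.card (ProjectiveSpecialLinearGroup (Fin 4) F) ∣ N1 := by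
      rw [← Nat.card_congr e.toEquiv]
      obtain ⟨j, rfl⟩ : ∃ j, l = j + 1 := ⟨l - 1, by omega⟩
      exact (card_pomega_dvd _).trans ((card_oplus_dvd (k := j) (l := 3)).trans h1)
    have h3 := psl_dvd_of_le hF (by norm_num) h2
    have key : ∀ q ∈ [2, 3, 4, 5, 7, 8, 9, 11], fPSL.num 4 q ∣ fPSL.den 4 q * N1 → q = 2 := by decide +kernel
    exact key q hq h3
  have h7 : l < 2 := by
    by_contra hl
    have h6 := h5 (by omega)
    subst h6
    obtain ⟨j, rfl⟩ : ∃ j, l = j + 2 := ⟨l - 2, by omega⟩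
    have h2 : Nat.card (POmega F (quadFormPlus 4 F)) ∣ N1 :=
      (card_pomega_dvd _).trans ((card_oplus_dvd (k := j) (l := 4)).trans h1)
    have h3 := dvd_of_eq (ord_oplus (m := 4) hF le_rfl) h2
    revert h3
    decide +kernel
  have h8 := ord_oplus (m := 2 + (l + 2)) hF (by omega)
  have key : ∀ l < 2, ∀ q ∈ [2, 3, 4, 5, 7, 8, 9, 11], (1 ≤ l → q = 2) →
      (0 < fOPlus.den (2 + (l + 2)) q ∧ bad (fOPlus.den (2 + (l + 2)) q) (fOPlus.num (2 + (l + 2)) q) = true) := by
    decide +kernel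
  obtain ⟨h9, h10⟩ := key l h7 q hq h5
  exact h.kill h9 h8 h10

theorem elim_ominus {q m : ℕ} (hF : Fintype.card F = q) (hm : 4 ≤ m) {a b : F}
    (hab : ∀ z₁ z₂ : F, z₁ ^ 2 + a * z₁ * z₂ + b * z₂ ^ 2 = 0 → z₁ = 0 ∧ z₂ = 0)
    (h : C6 (POmega F (quadFormMinus (m - 1) F a b))) : m = 5 ∧ q = 2 := by
  obtain ⟨l, rfl⟩ : ∃ l, m = 2 + (l + 2) := ⟨m - 4, by omega⟩
  have e0 : 2 + (l + 2) - 1 = 2 + (l + 1) := by omega
  have h8 := ord_ominus (m := 2 + (l + 2)) hF (by omega) hab
  have hfc := h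
  rw [e0] at h
  have h1 := h.has (has_ominus hab (l := l + 1))
  have hq : q ∈ [2, 3] := by
    have hq0 : IsPrimePow q := hF ▸ Fintype.isPrimePow_card_of_field
    obtain ⟨p, n, hp, hn, hpn⟩ := (isPrimePow_nat_iff _).mp hq0
    have : Fact p.Prime := ⟨hp⟩
    let _ : Fintype (GaloisField p (n * 2)) := Fintype.ofFinite _
    have hK : Fintype.card (GaloisField p (n * 2)) = q ^ 2 := by
      rw [← Nat.card_eq_fintype_card, GaloisField.card p _ (by omega), pow_mul, hpn]
    obtain ⟨e⟩ := Cfsg.Agent.S0300.result hF hK a b hab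
    have h2 : Nat.card (ProjectiveSpecialLinearGroup (Fin 2) (GaloisField p (n * 2))) ∣ N1 := by
      rw [← Nat.card_congr e.toEquiv]
      exact (card_pomega_dvd _).trans ((card_ominus_dvd (k := l) (l := 1)).trans h1)
    have h3 := q_of_psl_two hK h2
    have h4 : q ^ 2 ∈ [2, 3, 4, 5, 7, 8, 9, 11] → q ∈ [2, 3] := by
      intro h
      have h5 : q < 4 := by
        by_contra hc
        have : 16 ≤ q ^ 2 := by nlinarith only [hc]
        have h6 : ∀ x ∈ [2, 3, 4, 5, 7, 8, 9, 11], x < 16 := by decide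
        have := h6 _ h
        omega
      interval_cases q
      · simp at h
      · simp at h
      · decide
      · decide
    exact h4 h3
  have h7 : l < 2 := by
    by_contra hl
    obtain ⟨j, rfl⟩ : ∃ j, l = j + 2 := ⟨l - 2, by omega⟩
    have h2 : Nat.card (POmega F (quadFormMinus (4 - 1) F a b)) ∣ N1 :=
      (card_pomega_dvd _).trans ((card_ominus_dvd (k := j) (l := 3)).trans h1)
    have h3 := dvd_of_eq (ord_ominus (m := 4) hF le_rfl hab) h2
    have key : ∀ q ∈ [2, 3], ¬ fOMinus.num 4 q ∣ fOMinus.den 4 q * N1 := by decide +kernel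
    exact key q hq h3
  have key : ∀ l < 2, ∀ q ∈ [2, 3], (2 + (l + 2) = 5 ∧ q = 2) ∨
      (0 < fOMinus.den (2 + (l + 2)) q ∧ bad (fOMinus.den (2 + (l + 2)) q) (fOMinus.num (2 + (l + 2)) q) = true) := by
    decide +kernel
  rcases key l h7 q hq with h9 | ⟨h9, h10⟩
  · exact h9
  · exact (hfc.kill h9 h8 h10).elim

end Cfsg.Agent.H343
end

private theorem dce_ffae19631a03 : _root_.True := by
  try have : _root_.True := by simp only [_root_.Cfsg.Agent.OrdDiv.prB.eq_1]
  exact _root_.True.intro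
end

-- part: H343/Elim6
section
set_option linter.all false
open scoped Cfsg.Agent.FastGrp

/-!
# Elimination with `|L|_3 = 3^6` (helper343)

`elim6` : a known simple group `L` with `3^6 ∥ |L|` in which the order of the centralizer of every element of
order 3 divides `2^36 3^6 5 7 11` is one of a few groups.
-/

set_option autoImplicit false
set_option linter.unusedVariables false
set_option linter.unusedSectionVars false

namespace Cfsg.Agent.H343

open Cfsg Cfsg.Agent.OrdDiv Matrix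

universe u

/-! ### alternating groups -/

theorem has2_alt {n : ℕ} (hn : 5 ≤ n) : Has2 ((n - 3).factorial * 3) (alternatingGroup (Fin n)) := by
  have h3 : ∃ g : Equiv.Perm (Fin n), g.cycleType = {3} :=
    (Equiv.Perm.exists_with_cycleType_iff (Fin n)).mpr ⟨by simp only [_root_.Multiset.sum_singleton, _root_.Fintype.card_fin]; omega, by simp⟩
  obtain ⟨g, hg⟩ := h3
  have hs : g ∈ alternatingGroup (Fin n) := by
    rw [Equiv.Perm.mem_alternatingGroup]
    exact Equiv.Perm.IsThreeCycle.sign hg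
  have ho : orderOf g = 3 := Equiv.Perm.IsThreeCycle.orderOf hg
  refine ⟨⟨g, hs⟩, ?_, ?_⟩
  · rw [← Subgroup.orderOf_coe]; exact ho
  · have h1 := Equiv.Perm.nat_card_centralizer g
    rw [hg] at h1
    simp only [_root_.Fintype.card_fin, _root_.Multiset.sum_singleton, _root_.Multiset.prod_singleton, _root_.Multiset.toFinset_singleton, _root_.Multiset.nodup_singleton, _root_.Finset.prod_singleton, _root_.Multiset.mem_singleton, _root_.Multiset.count_eq_one_of_mem, _root_.Nat.factorial_one, _root_.mul_one] at h1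
    have h2 : Nat.card ↥(Subgroup.centralizer ({(⟨g, hs⟩ : alternatingGroup (Fin n))} : Set (alternatingGroup (Fin n)))) =
        Nat.card ↥(alternatingGroup (Fin n) ⊓ Subgroup.centralizer ({g} : Set (Equiv.Perm (Fin n)))) := by
      refine Nat.card_congr
        { toFun := fun c => ⟨c.1.1, c.1.2, ?_⟩
          invFun := fun c => ⟨⟨c.1, c.2.1⟩, ?_⟩
          left_inv := fun c => rfl
          right_inv := fun c => rfl }
      · have := Subgroup.mem_centralizer_singleton_iff.mp c.2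
        exact Subgroup.mem_centralizer_singleton_iff.mpr (congrArg Subtype.val this)
      · have := Subgroup.mem_centralizer_singleton_iff.mp c.2.2
        exact Subgroup.mem_centralizer_singleton_iff.mpr (Subtype.ext this)
    have h3 : (alternatingGroup (Fin n)).relIndex (Subgroup.centralizer ({g} : Set (Equiv.Perm (Fin n)))) ∣ 2 := by
      have : Nontrivial (Fin n) := Fin.nontrivial_iff_two_le.2 (by omega)
      rw [← alternatingGroup.index_eq_two (α := Fin n)]
      exact Subgroup.relIndex_dvd_index_of_normal _ _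
    have h4 : (alternatingGroup (Fin n)).relIndex (Subgroup.centralizer ({g} : Set (Equiv.Perm (Fin n)))) *
        Nat.card ↥(alternatingGroup (Fin n) ⊓ Subgroup.centralizer ({g} : Set (Equiv.Perm (Fin n)))) =
        Nat.card (Subgroup.centralizer ({g} : Set (Equiv.Perm (Fin n)))) := by
      rw [← Subgroup.inf_relIndex_right, ← Subgroup.relIndex_bot_left, ← Subgroup.relIndex_bot_left, mul_comm]
      exact Subgroup.relIndex_mul_relIndex _ _ _ bot_le inf_le_right
    rw [h2, ← h1, ← h4]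
    exact Nat.mul_dvd_mul_right h3 _

theorem elim_alt {n : ℕ} (hn : 5 ≤ n) (h : C6 (alternatingGroup (Fin n))) : False := by
  have h1 := h.has2 (has2_alt hn)
  have h2 : n < 13 := by
    by_contra hc
    have h3 : (10).factorial ∣ (n - 3).factorial := Nat.factorial_dvd_factorial (by omega)
    have h4 : (10).factorial * 3 ∣ 2 * N1 := (Nat.mul_dvd_mul_right h3 3).trans h1
    revert h4
    decide +kernel
  have h3 := alt_card hn (MulEquiv.refl (alternatingGroup (Fin n)))
  have key : ∀ n < 13, 5 ≤ n → bad 2 n.factorial = true := by decide +kernel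
  exact h.kill (by norm_num) h3.symm (key n h2 hn)

/-! ### 3-parts -/

theorem padic_six {c : ℕ} (hc : c ≠ 0) (h6 : 3 ^ 6 ∣ c) (h7 : ¬ 3 ^ 7 ∣ c) : padicValNat 3 c = 6 := by
  have : Fact (Nat.Prime 3) := ⟨Nat.prime_three⟩
  have h1 := (padicValNat_dvd_iff_le hc).mp h6
  have h2 : ¬ 7 ≤ padicValNat 3 c := fun h => h7 ((padicValNat_dvd_iff_le hc).mpr h)
  omega

theorem three_dvd_sq_sub {q : ℕ} (h : ¬ 3 ∣ q) : 3 ∣ q ^ 2 - 1 := by
  have h1 : q % 3 = 1 ∨ q % 3 = 2 := by omega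
  have h2 : q ^ 2 % 3 = 1 := by
    rcases h1 with h | h <;> rw [Nat.pow_mod, h]
  omega

theorem three_dvd_pow_sub {q k : ℕ} (h : ¬ 3 ∣ q) : 3 ∣ q ^ (2 * k) - 1 := by
  rw [pow_mul]
  refine (three_dvd_sq_sub h).trans ?_
  simpa only [_root_.one_pow] using Nat.sub_dvd_pow_sub_pow (q ^ 2) 1 k

theorem odd_val_g2 {q c : ℕ} (hq : 1 < q) (h3 : ¬ 3 ∣ q) (hc : c = q ^ 6 * (q ^ 2 - 1) * (q ^ 6 - 1))
    (h6 : 3 ^ 6 ∣ c) (h7 : ¬ 3 ^ 7 ∣ c) : False := by
  have : Fact (Nat.Prime 3) := ⟨Nat.prime_three⟩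
  have hq1 : 1 ≤ q ^ 2 := Nat.one_le_pow _ _ (by omega)
  obtain ⟨x, hx⟩ : ∃ x, q ^ 2 = x + 1 := ⟨q ^ 2 - 1, by omega⟩
  have hx3 : 3 ∣ x := by
    have := three_dvd_sq_sub h3
    rwa [hx, Nat.add_sub_cancel] at this
  obtain ⟨y, rfl⟩ := hx3
  have hx0 : y ≠ 0 := by
    rintro rfl
    have : 1 < q ^ 2 := Nat.one_lt_pow (by norm_num) hq
    omega
  have e1 : q ^ 6 - 1 = (3 * y) * (3 * (3 * (y * y) + 3 * y + 1)) := by
    rw [show q ^ 6 = (q ^ 2) ^ 3 by ring, hx]
    have : (3 * y + 1) ^ 3 = (3 * y) * (3 * (3 * (y * y) + 3 * y + 1)) + 1 := by ring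
    rw [this]; simp
  have e2 : c = q ^ 6 * (3 ^ 3 * (y ^ 2 * (3 * (y * y) + 3 * y + 1))) := by
    rw [hc, e1, hx, Nat.add_sub_cancel]; ring
  have h0 : c ≠ 0 := by
    rw [e2]
    have : 0 < q := by omega
    (clear * - hq hx0; positivity)
  have h8 := padic_six h0 h6 h7
  have v1 : padicValNat 3 (q ^ 6) = 6 * padicValNat 3 q := padicValNat.pow q 6
  have v2 : padicValNat 3 (y ^ 2) = 2 * padicValNat 3 y := padicValNat.pow y 2
  rw [e2, padicValNat.mul (by positivity) (by (clear * - hx0; positivity)), padicValNat.mul (by positivity) (by (clear * - hx0; positivity)),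
    padicValNat.mul (by positivity) (by positivity), v1, v2,
    padicValNat.eq_zero_of_not_dvd h3, padicValNat.eq_zero_of_not_dvd (show ¬ 3 ∣ 3 * (y * y) + 3 * y + 1 by omega),
    padicValNat.prime_pow] at h8
  omega

theorem odd_val_tf4 {q c : ℕ} (hq : 1 < q) (h3 : q % 3 = 2)
    (hc : c = q ^ 12 * (q - 1) * (q ^ 3 + 1) * (q ^ 4 - 1) * (q ^ 6 + 1))
    (h6 : 3 ^ 6 ∣ c) (h7 : ¬ 3 ^ 7 ∣ c) : False := by
  have : Fact (Nat.Prime 3) := ⟨Nat.prime_three⟩
  obtain ⟨y, hy⟩ : ∃ y, q = 3 * y + 2 := ⟨q / 3, by omega⟩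
  have e1 : q ^ 3 + 1 = (3 * (y + 1)) * (3 * (3 * (y * y) + 3 * y + 1)) := by rw [hy]; ring
  have e2 : q ^ 4 - 1 = (3 * (y + 1)) * ((3 * y + 1) * (9 * (y * y) + 12 * y + 5)) := by
    have : q ^ 4 = (3 * (y + 1)) * ((3 * y + 1) * (9 * (y * y) + 12 * y + 5)) + 1 := by rw [hy]; ring
    rw [this]; simp
  have e3 : q - 1 = 3 * y + 1 := by (clear * - hy; omega)
  have e4 : c = (3 ^ 3 * (y + 1) ^ 2) * (q ^ 12 * (3 * y + 1) ^ 2 * (3 * (y * y) + 3 * y + 1) *
      (9 * (y * y) + 12 * y + 5) * (q ^ 6 + 1)) := by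
    rw [hc, e1, e2, e3]; ring
  have q0 : 0 < q := by omega
  have h0 : c ≠ 0 := by
    rw [e4]; (clear * - hq; positivity)
  have h8 := padic_six h0 h6 h7
  have n3 : ¬ 3 ∣ q ^ 12 * (3 * y + 1) ^ 2 * (3 * (y * y) + 3 * y + 1) *
      (9 * (y * y) + 12 * y + 5) * (q ^ 6 + 1) := by
    have a1 : ¬ 3 ∣ q ^ 12 := fun h => by
      have := Nat.prime_three.dvd_of_dvd_pow h; omega
    have a2 : ¬ 3 ∣ (3 * y + 1) ^ 2 := fun h => by
      have := Nat.prime_three.dvd_of_dvd_pow h; omega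
    have a3 : ¬ 3 ∣ 3 * (y * y) + 3 * y + 1 := by omega
    have a4 : ¬ 3 ∣ 9 * (y * y) + 12 * y + 5 := by (clear * -; omega)
    have a5 : ¬ 3 ∣ q ^ 6 + 1 := by
      have h1 : q ^ 6 % 3 = 1 := by
        rw [Nat.pow_mod, h3]
      omega
    intro h
    rcases (Nat.Prime.dvd_mul Nat.prime_three).mp h with h | h
    · rcases (Nat.Prime.dvd_mul Nat.prime_three).mp h with h | h
      · rcases (Nat.Prime.dvd_mul Nat.prime_three).mp h with h | h
        · rcases (Nat.Prime.dvd_mul Nat.prime_three).mp h with h | h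
          · exact a1 h
          · exact a2 h
        · exact a3 h
      · exact a4 h
    · exact a5 h
  have v2 : padicValNat 3 ((y + 1) ^ 2) = 2 * padicValNat 3 (y + 1) := padicValNat.pow (y + 1) 2
  rw [e4, padicValNat.mul (by (clear * -; positivity)) (by (clear * - hq; positivity)), padicValNat.mul (by positivity) (by (clear * -; positivity)),
    v2, padicValNat.eq_zero_of_not_dvd n3,
    padicValNat.prime_pow] at h8
  omega

theorem pow_dvd_of {q a b : ℕ} (h : 3 ∣ q) (hab : a ≤ b) : 3 ^ a ∣ q ^ b :=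
  (pow_dvd_pow 3 hab).trans (pow_dvd_pow_of_dvd h b)

/-- the survivors -/
def surv6 : List Grp :=
  [.psl 4 3, .psu 4 3, .psu 6 2, .ominus 5 2, .g2 3, .f4 2, .f4 4, .f4 5, .f4 7, .f4 11, .e6 2, .e6 5, .e6 11,
    .te6 4, .te6 7, .mcl, .co2, .hn]

/-- **the elimination** -/
theorem elim6 (T : OrderTable.{u}) {L : Type u} [Group L] (hK : IsKnownSimple' L) (h : C6 L) :
    (∃ q, Real (.psl 2 q) L ∨ Real (.psl 3 q) L ∨ Real (.psu 3 q) L) ∨ ∃ g ∈ surv6, Real g L := by
  have h67 : 3 ^ 6 ∣ Nat.card L := h.d6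
  have spor_case : ∀ g : Grp, g ∈ spor.map (fun x => x.1) → Real g L → ∃ g ∈ surv6, Real g L := by
    intro g hg hr
    obtain ⟨x, hx, rfl⟩ := List.mem_map.1 hg
    have h1 := T.spor L x hx hr
    have key : ∀ x ∈ spor, x.1 ∈ surv6 ∨ bad 1 x.2 = true := by decide +kernel
    rcases key x hx with h2 | h2
    · exact ⟨x.1, h2, hr⟩
    · exact (h.kill one_pos (by rw [one_mul, h1]) h2).elim
  rcases hK with h0 | h0 | h0 | h0 | h0 | h0 | h0 | h0 | h0 | h0
  · exfalso
    have h1 : 3 ∣ Nat.card L := (Dvd.intro_left (3 ^ 5) (by norm_num)).trans h67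
    have h2 : Nat.card L = 3 := ((Nat.prime_dvd_prime_iff_eq Nat.prime_three h0).mp h1).symm
    rw [h2] at h67
    norm_num at h67
  · obtain ⟨n, hn, ⟨e⟩⟩ := h0
    exact (elim_alt hn (h.equiv e)).elim
  · obtain ⟨F, _, _, n, hn, hn2, ⟨e⟩⟩ := h0
    have hc : n = 2 ∨ n = 3 ∨ 4 ≤ n := by omega
    rcases hc with rfl | rfl | hn4
    · exact Or.inl ⟨_, Or.inl ⟨F, inferInstance, inferInstance, rfl, ⟨e⟩⟩⟩
    · exact Or.inl ⟨_, Or.inr (Or.inl ⟨F, inferInstance, inferInstance, rfl, ⟨e⟩⟩)⟩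
    · obtain ⟨rfl, h1⟩ := elim_psl rfl hn4 (h.equiv e)
      exact Or.inr ⟨.psl 4 3, by decide, F, inferInstance, inferInstance, h1, ⟨e⟩⟩
  · obtain ⟨F, _, _, n, hn, hn2, ⟨e⟩⟩ := h0
    exact (elim_psp rfl hn (h.equiv e)).elim
  · obtain ⟨F, _, _, n, q, hF, hn, hn2, ⟨e⟩⟩ := h0
    have hc : n = 3 ∨ 4 ≤ n := by omega
    rcases hc with rfl | hn4
    · exact Or.inl ⟨q, Or.inr (Or.inr ⟨F, inferInstance, inferInstance, hF, ⟨e⟩⟩)⟩
    · rcases elim_psu hF hn4 (h.equiv e) with ⟨rfl, rfl⟩ | ⟨rfl, rfl⟩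
      · exact Or.inr ⟨.psu 4 3, by decide, F, inferInstance, inferInstance, hF, ⟨e⟩⟩
      · exact Or.inr ⟨.psu 6 2, by decide, F, inferInstance, inferInstance, hF, ⟨e⟩⟩
  · obtain ⟨F, _, _, n, hn, ho, ⟨e⟩⟩ := h0
    exact (elim_oodd rfl ho hn (h.equiv e)).elim
  · obtain ⟨F, _, _, n, hn, ⟨e⟩⟩ := h0
    exact (elim_oplus rfl hn (h.equiv e)).elim
  · obtain ⟨F, _, _, n, a, b, hn, hab, ⟨e⟩⟩ := h0
    obtain ⟨rfl, h1⟩ := elim_ominus rfl hn hab (h.equiv e)
    exact Or.inr ⟨.ominus 5 2, by decide, F, inferInstance, inferInstance, a, b, h1, hab, ⟨e⟩⟩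
  · rcases h0 with h0 | h0 | h0 | h0 | h0 | h0 | h0 | h0 | h0 | h0 | h0
    · -- G2
      obtain ⟨F, _, _, hq, ⟨e⟩⟩ := h0
      have h1 := T.g2 F
      have h2 := h.equiv e
      by_cases h3 : 3 ∣ Fintype.card F
      · have hp : IsPrimePow (Fintype.card F) := Fintype.isPrimePow_card_of_field
        obtain ⟨p, k, hp1, hk, hpk⟩ := (isPrimePow_nat_iff _).mp hp
        have hp3 : p = 3 := by
          rw [← hpk] at h3
          exact ((Nat.prime_dvd_prime_iff_eq Nat.prime_three hp1).mp (Nat.prime_three.dvd_of_dvd_pow h3)).symm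
        subst hp3
        rcases Nat.lt_or_ge k 2 with hk2 | hk2
        · have : k = 1 := by omega
          subst this
          exact Or.inr ⟨.g2 3, by decide, F, inferInstance, inferInstance, by rw [← hpk, pow_one], ⟨e⟩⟩
        · exfalso
          apply h2.n7
          rw [h1, ← hpk, ← pow_mul, mul_assoc]
          exact (pow_dvd_pow 3 (by omega)).mul_right _
      · exact (odd_val_g2 (by omega) h3 h1 h2.d6 h2.n7).elim
    · -- F4
      obtain ⟨F, _, _, ⟨e⟩⟩ := h0
      have h2 := h.equiv e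
      have h3 := h2.has2 (has2_f4 F)
      rw [card_SL_two rfl] at h3
      have h4 := qlist Fintype.isPrimePow_card_of_field h3
      have h5 : 1 * Nat.card (Lie.chevF4.group F) = fF4.num 0 (Fintype.card F) := by
        rw [one_mul, T.f4 F _ rfl]
        change _ = (Fintype.card F) ^ 24 * (((Fintype.card F) ^ 2 - 1) * ((Fintype.card F) ^ 6 - 1) *
          ((Fintype.card F) ^ 8 - 1) * ((Fintype.card F) ^ 12 - 1))
        ring
      have key : ∀ q ∈ [2, 3, 4, 5, 7, 8, 9, 11], Grp.f4 q ∈ surv6 ∨ bad 1 (fF4.num 0 q) = true := by decide +kernel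
      rcases key _ h4 with h6 | h6
      · exact Or.inr ⟨_, h6, F, inferInstance, inferInstance, rfl, ⟨e⟩⟩
      · exact (h2.kill one_pos h5 h6).elim
    · -- E6
      obtain ⟨F, _, _, ⟨e⟩⟩ := h0
      have h2 := h.equiv e
      have h3 := h2.has2 (has2_e6 F)
      rw [card_SL_two rfl] at h3
      have h4 := qlist Fintype.isPrimePow_card_of_field h3
      have h5 : fE6.den 0 (Fintype.card F) * Nat.card (Lie.chevE6.group F) = fE6.num 0 (Fintype.card F) := by
        change Nat.gcd 3 (Fintype.card F - 1) * _ = (Fintype.card F) ^ 36 * (((Fintype.card F) ^ 2 - 1) *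
          ((Fintype.card F) ^ 5 - 1) * ((Fintype.card F) ^ 6 - 1) *
          ((Fintype.card F) ^ 8 - 1) * ((Fintype.card F) ^ 9 - 1) * ((Fintype.card F) ^ 12 - 1))
        rw [T.e6 F _ rfl]
        ring
      have key : ∀ q ∈ [2, 3, 4, 5, 7, 8, 9, 11], Grp.e6 q ∈ surv6 ∨
          (0 < fE6.den 0 q ∧ bad (fE6.den 0 q) (fE6.num 0 q) = true) := by decide +kernel
      rcases key _ h4 with h6 | ⟨h6, h7⟩
      · exact Or.inr ⟨_, h6, F, inferInstance, inferInstance, rfl, ⟨e⟩⟩
      · exact (h2.kill h6 h5 h7).elim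
    · -- E7
      exfalso
      obtain ⟨F, _, _, ⟨e⟩⟩ := h0
      have h2 := h.equiv e
      have h5 := T.e7 F _ rfl
      apply h2.n7
      have h6 : 3 ^ 7 ∣ Nat.gcd 2 (Fintype.card F - 1) * Nat.card (Lie.chevE7.group F) := by
        rw [h5]
        by_cases h3 : 3 ∣ Fintype.card F
        · exact (((((((pow_dvd_of h3 (by norm_num)).mul_right _).mul_right _).mul_right _).mul_right _).mul_right
            _).mul_right _).mul_right _
        · have a1 := three_dvd_pow_sub (q := Fintype.card F) (k := 1) h3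
          have a3 := three_dvd_pow_sub (q := Fintype.card F) (k := 3) h3
          have a4 := three_dvd_pow_sub (q := Fintype.card F) (k := 4) h3
          have a5 := three_dvd_pow_sub (q := Fintype.card F) (k := 5) h3
          have a6 := three_dvd_pow_sub (q := Fintype.card F) (k := 6) h3
          have a7 := three_dvd_pow_sub (q := Fintype.card F) (k := 7) h3
          have a9 := three_dvd_pow_sub (q := Fintype.card F) (k := 9) h3
          rw [show (3 : ℕ) ^ 7 = 1 * 3 * 3 * 3 * 3 * 3 * 3 * 3 by norm_num]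
          exact Nat.mul_dvd_mul (Nat.mul_dvd_mul (Nat.mul_dvd_mul (Nat.mul_dvd_mul (Nat.mul_dvd_mul (Nat.mul_dvd_mul
            (Nat.mul_dvd_mul (one_dvd _) a1) a3) a4) a5) a6) a7) a9
      exact (Nat.Coprime.dvd_of_dvd_mul_left (Nat.Coprime.pow_left _
        (Nat.Coprime.coprime_dvd_right (Nat.gcd_dvd_left _ _) (by norm_num))) h6)
    · -- E8
      exfalso
      obtain ⟨F, _, _, ⟨e⟩⟩ := h0
      have h2 := h.equiv e
      have h5 := T.e8 F _ rfl
      apply h2.n7
      rw [h5]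
      by_cases h3 : 3 ∣ Fintype.card F
      · exact ((((((((pow_dvd_of h3 (by norm_num)).mul_right _).mul_right _).mul_right _).mul_right _).mul_right
          _).mul_right _).mul_right _).mul_right _
      · have a1 := three_dvd_pow_sub (q := Fintype.card F) (k := 1) h3
        have a4 := three_dvd_pow_sub (q := Fintype.card F) (k := 4) h3
        have a6 := three_dvd_pow_sub (q := Fintype.card F) (k := 6) h3
        have a7 := three_dvd_pow_sub (q := Fintype.card F) (k := 7) h3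
        have a9 := three_dvd_pow_sub (q := Fintype.card F) (k := 9) h3
        have a10 := three_dvd_pow_sub (q := Fintype.card F) (k := 10) h3
        have a12 := three_dvd_pow_sub (q := Fintype.card F) (k := 12) h3
        rw [show (3 : ℕ) ^ 7 = 1 * 3 * 3 * 3 * 3 * 3 * 3 * 3 * 1 by norm_num]
        exact Nat.mul_dvd_mul (Nat.mul_dvd_mul (Nat.mul_dvd_mul (Nat.mul_dvd_mul (Nat.mul_dvd_mul (Nat.mul_dvd_mul
          (Nat.mul_dvd_mul (Nat.mul_dvd_mul (one_dvd _) a1) a4) a6) a7) a9) a10) a12) (one_dvd _)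
    · -- 2E6
      obtain ⟨F, _, _, q, hq, hF, ⟨e⟩⟩ := h0
      have h2 := h.equiv e
      obtain ⟨k, _, _, hk, h3⟩ := has2_twe6 F hq hF
      have h3 := h2.has2 h3
      rw [card_SL_two hk] at h3
      have h4 := qlist hq h3
      have h5 : fTE6.den 0 q * Nat.card (Lie.twistedE6 F q) = fTE6.num 0 q := by
        change Nat.gcd 3 (q + 1) * _ = q ^ 36 * ((q ^ 2 - 1) * (q ^ 5 + 1) * (q ^ 6 - 1) * (q ^ 8 - 1) * (q ^ 9 + 1) *
          (q ^ 12 - 1))
        rw [T.te6 F q hq hF]
        ring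
      have key : ∀ q ∈ [2, 3, 4, 5, 7, 8, 9, 11], Grp.te6 q ∈ surv6 ∨
          (0 < fTE6.den 0 q ∧ bad (fTE6.den 0 q) (fTE6.num 0 q) = true) := by decide +kernel
      rcases key _ h4 with h6 | ⟨h6, h7⟩
      · exact Or.inr ⟨_, h6, F, inferInstance, inferInstance, hF, ⟨e⟩⟩
      · exact (h2.kill h6 h5 h7).elim
    · -- 3D4
      exfalso
      obtain ⟨F, _, _, q, hq, hF, ⟨e⟩⟩ := h0
      have h2 := h.equiv e
      have h3 := h2.has2 (has2_twd4 F hq hF)
      rw [card_SL_two rfl, hF] at h3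
      have h4 := qlist (hq.pow three_ne_zero) h3
      have hq2 : q = 2 := by
        have h5 : q < 3 := by
          by_contra hc
          have : 27 ≤ q ^ 3 := by
            calc 27 = 3 ^ 3 := by norm_num
              _ ≤ q ^ 3 := Nat.pow_le_pow_left (by omega) 3
          have h6 : ∀ x ∈ [2, 3, 4, 5, 7, 8, 9, 11], x < 16 := by decide
          have := h6 _ h4
          omega
        have := hq.one_lt
        omega
      subst hq2
      have h5 := T.td4 F 2 hq hF
      exact h2.kill one_pos (by rw [one_mul, h5]) (by decide +kernel)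
    · -- Sz
      exfalso
      obtain ⟨F, _, _, m, hm, hF, ⟨e⟩⟩ := h0
      have h2 := h.equiv e
      have h5 := T.sz F m hm hF
      have h6 := h2.d6
      rw [h5] at h6
      have h7 : 2 ^ (2 * m + 1) % 3 = 2 := by
        rw [pow_succ, pow_mul, Nat.mul_mod, Nat.pow_mod]; norm_num
      generalize 2 ^ (2 * m + 1) = q at *
      have h8 : 3 ∣ q ^ 2 * (q - 1) * (q ^ 2 + 1) := (Dvd.intro_left (3 ^ 5) (by norm_num)).trans h6
      rcases (Nat.Prime.dvd_mul Nat.prime_three).mp h8 with h | h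
      · rcases (Nat.Prime.dvd_mul Nat.prime_three).mp h with h | h
        · have := Nat.prime_three.dvd_of_dvd_pow h
          omega
        · omega
      · have : q ^ 2 % 3 = 1 := by rw [Nat.pow_mod, h7]
        omega
    · -- Ree
      exfalso
      obtain ⟨F, _, _, m, hm, hF, ⟨e⟩⟩ := h0
      have h2 := h.equiv e
      apply h2.n7
      rw [T.ree F m hm hF, ← pow_mul]
      exact ((pow_dvd_pow 3 (by omega)).mul_right _).mul_right _
    · -- 2F4
      exfalso
      obtain ⟨F, _, _, m, hm, hF, ⟨e⟩⟩ := h0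
      have h2 := h.equiv e
      have h7 : 2 ^ (2 * m + 1) % 3 = 2 := by
        rw [pow_succ, pow_mul, Nat.mul_mod, Nat.pow_mod]; norm_num
      exact odd_val_tf4 (Nat.one_lt_two_pow (by omega)) h7 (T.tf4 F m hm hF) h2.d6 h2.n7
    · exact Or.inr (spor_case .tits (by decide) h0)
  · right
    rcases h0 with h0 | h0 | h0 | h0 | h0 | h0 | h0 | h0 | h0 | h0 | h0 | h0 | h0 | h0 | h0 | h0 | h0 | h0 | h0 | h0 | h0 | h0 | h0 | h0 | h0 | h0
    · exact spor_case .m11 (by decide) h0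
    · exact spor_case .m12 (by decide) h0
    · exact spor_case .m22 (by decide) h0
    · exact spor_case .m23 (by decide) h0
    · exact spor_case .m24 (by decide) h0
    · exact spor_case .j1 (by decide) h0
    · exact spor_case .j2 (by decide) h0
    · exact spor_case .j3 (by decide) h0
    · exact spor_case .j4 (by decide) h0
    · exact spor_case .co1 (by decide) h0
    · exact spor_case .co2 (by decide) h0
    · exact spor_case .co3 (by decide) h0
    · exact spor_case .mcl (by decide) h0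
    · exact spor_case .hs (by decide) h0
    · exact spor_case .suz (by decide) h0
    · exact spor_case .he (by decide) h0
    · exact spor_case .ru (by decide) h0
    · exact spor_case .on (by decide) h0
    · exact spor_case .ly (by decide) h0
    · exact spor_case .fi22 (by decide) h0
    · exact spor_case .fi23 (by decide) h0
    · exact spor_case .fi24 (by decide) h0
    · exact spor_case .hn (by decide) h0
    · exact spor_case .th (by decide) h0
    · exact spor_case .b (by decide) h0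
    · exact spor_case .m (by decide) h0

end Cfsg.Agent.H343
end
end
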